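import Cfsg.Agent.H4.MTwelveNse.CentAQuot

/-!
The suborbits of a subgroup of order 72 in a group of order 720 of the kind considered.
-/

set_option autoImplicit false
set_option linter.style.haveILetI false

namespace H4.MTwelveNse

open Subgroup MulAction

variable {Q : Type*} [Group Q] [Finite Q] {P H : Subgroup Q}

/-- The coset fixed by `H`. -/
abbrev base (H : Subgroup Q) : Q ⧸ H := ((1 : Q) : Q ⧸ H)

omit [Finite Q] in
theorem smul_base {g : Q} : g • base H = base H ↔ g ∈ H := by
  show ((g * 1 : Q) : Q ⧸ H) = ((1 : Q) : Q ⧸ H) ↔ _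
  rw [QuotientGroup.eq]
  simp

omit [Finite Q] in
theorem card_points (F : QFacts Q P) (hH : Nat.card H = 72) : Nat.card (Q ⧸ H) = 10 := by
  have := H.card_mul_index
  rw [hH, F.card] at this
  rw [← index_eq_card]
  omega

theorem fix_unique (F : QFacts Q P) (hH : Nat.card H = 72) {b : Q ⧸ H}
    (hb : ∀ h ∈ H, h • b = b) : b = base H := by
  obtain ⟨g, hg⟩ := MulAction.exists_smul_eq Q (base H) b
  by_contra hne
  have hgH : g ∉ H := fun h => hne (by rw [← hg, smul_base.2 h])
  have hle : H.map (MulAut.conj g⁻¹).toMonoidHom ≤ H := by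
    rintro _ ⟨h, hh, rfl⟩
    refine smul_base.1 ?_
    simp only [MulEquiv.toMonoidHom_eq_coe, MonoidHom.coe_coe, MulAut.conj_apply, inv_inv,
      mul_smul, hg, hb h hh]
    rw [← hg, inv_smul_smul]
  have heq : H.map (MulAut.conj g⁻¹).toMonoidHom = H := eq_of_le_of_card_ge hle
    (by rw [Subgroup.card_map_of_injective (MulAut.conj g⁻¹).injective])
  have hgn : g ∈ normalizer (H : Set Q) := by
    have : g⁻¹ ∈ normalizer (H : Set Q) := by
      rw [mem_normalizer_iff]
      intro h
      constructor
      · intro hh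
        rw [← heq]
        exact ⟨h, hh, rfl⟩
      · intro hh
        rw [← heq] at hh
        obtain ⟨k, hk, he⟩ := hh
        rwa [← (MulAut.conj g⁻¹).injective (he : MulAut.conj g⁻¹ k = MulAut.conj g⁻¹ h)]
    simpa using inv_mem this
  rcases eq_or_eq_top F hH (le_normalizer (H := H)) with h | h
  · rw [h] at hgn; exact hgH hgn
  · haveI : H.Normal := normalizer_eq_top_iff.1 h
    have h1 : ∀ x ∈ H, x = 1 := fun x hx => faithful F hH fun c => by
      obtain ⟨k, rfl⟩ := QuotientGroup.mk_surjective c
      show ((x * k : Q) : Q ⧸ H) = (k : Q ⧸ H)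
      rw [QuotientGroup.eq, show (x * k)⁻¹ * k = (k⁻¹ * x * k)⁻¹ by group]
      exact H.inv_mem (by simpa using Subgroup.Normal.conj_mem (H := H) inferInstance x hx k⁻¹)
    have : H = ⊥ := (eq_bot_iff_forall _).2 h1
    rw [this, Subgroup.card_bot] at hH
    omega

/-- There is no self-paired suborbit of length three. -/
theorem no_cubic (F : QFacts Q P) (hH : Nat.card H = 72) {b : Q ⧸ H} (hb : b ≠ base H)
    {w : Q} (hw1 : w • base H = b) (hw2 : w • b = base H)
    (h3 : Nat.card (orbit H b) = 3) : False := by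
  classical
  haveI := Fintype.ofFinite (Q ⧸ H)
  set a := base H with ha
  let Adj : Q ⧸ H → Q ⧸ H → Prop := fun x y => ∃ g : Q, g • a = x ∧ g • b = y
  have hsymm : ∀ x y, Adj x y → Adj y x := by
    rintro x y ⟨g, hx, hy⟩
    exact ⟨g * w, by rw [mul_smul, hw1, hy], by rw [mul_smul, hw2, hx]⟩
  have hinv : ∀ (k : Q) x y, Adj x y → Adj (k • x) (k • y) := by
    rintro k x y ⟨g, hx, hy⟩
    exact ⟨k * g, by rw [mul_smul, hx], by rw [mul_smul, hy]⟩
  have hΔa : ∀ y, Adj a y ↔ y ∈ orbit H b := fun y =>
    ⟨fun ⟨g, hx, hy⟩ => ⟨⟨g, smul_base.1 hx⟩, hy⟩, fun ⟨g, hy⟩ => ⟨g, smul_base.2 g.2, hy⟩⟩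
  -- every point is reachable
  have hrinv : ∀ (k : Q) x y, Relation.ReflTransGen Adj x y →
      Relation.ReflTransGen Adj (k • x) (k • y) := fun k x y h => h.lift (k • ·) (hinv k)
  have hrsymm : ∀ x y, Relation.ReflTransGen Adj x y → Relation.ReflTransGen Adj y x := by
    intro x y h
    induction h with
    | refl => exact .refl
    | tail _ h2 ih => exact Relation.ReflTransGen.head (hsymm _ _ h2) ih
  let M : Subgroup Q :=
    { carrier := {g | Relation.ReflTransGen Adj a (g • a)}
      one_mem' := by
        show Relation.ReflTransGen Adj a ((1 : Q) • a)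
        rw [one_smul]
      mul_mem' := fun {x y} hx hy => by
        show Relation.ReflTransGen Adj a ((x * y) • a)
        rw [mul_smul]
        exact Relation.ReflTransGen.trans hx (hrinv x _ _ hy)
      inv_mem' := fun {x} hx => by
        have := hrinv x⁻¹ _ _ (hrsymm _ _ hx)
        rwa [inv_smul_smul] at this }
  have hHM : H ≤ M := fun h hh => by
    show Relation.ReflTransGen Adj a (h • a)
    rw [smul_base.2 hh]
  have hwM : w ∈ M := by
    show Relation.ReflTransGen Adj a (w • a)
    rw [hw1]
    exact .single ((hΔa b).2 (mem_orbit_self b))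
  have hMtop : M = ⊤ := by
    rcases eq_or_eq_top F hH hHM with h | h
    · rw [h] at hwM
      exact absurd (hw1.symm.trans (smul_base.2 hwM)) hb
    · exact h
  -- an element of order three fixing all neighbours of the base point
  let φ : H →* Equiv.Perm (orbit H b) := MulAction.toPermHom H (orbit H b)
  have hdim : Nat.card φ.range ∣ 6 := by
    have := card_subgroup_dvd_card φ.range
    rwa [Nat.card_perm, h3, show Nat.factorial 3 = 6 by decide] at this
  have hker : 3 ∣ Nat.card φ.ker := by
    have h := φ.ker.card_mul_index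
    rw [Subgroup.index_ker, hH] at h
    have h12 : 12 ∣ Nat.card φ.ker := by
      obtain ⟨m, hm⟩ := hdim
      refine ⟨m, ?_⟩
      have : Nat.card φ.ker * Nat.card φ.range = 12 * m * Nat.card φ.range := by
        rw [h, mul_assoc, mul_comm m, ← hm]
        all_goals norm_num
      exact Nat.eq_of_mul_eq_mul_right Nat.card_pos this
    exact (show 3 ∣ 12 by norm_num).trans h12
  haveI : Fact (Nat.Prime 3) := ⟨by norm_num⟩
  obtain ⟨x, hx⟩ := exists_prime_orderOf_dvd_card' (G := φ.ker) 3 hker
  set g : Q := ((x : H) : Q) with hg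
  have hg3 : g ^ 3 = 1 := by
    have : x ^ 3 = 1 := by rw [← hx, pow_orderOf_eq_one]
    exact congrArg (fun z : φ.ker => ((z : H) : Q)) this
  have hgne : g ≠ 1 := fun h => by
    have : x = 1 := Subtype.ext (Subtype.ext h)
    rw [this, orderOf_one] at hx
    omega
  let Good : Q ⧸ H → Prop := fun c => g • c = c ∧ ∀ y, Adj c y → g • y = y
  have hGa : Good a := by
    refine ⟨smul_base.2 (x : H).2, fun y hy => ?_⟩
    have := Equiv.congr_fun (MonoidHom.mem_ker.1 x.2) ⟨y, (hΔa y).1 hy⟩
    exact congrArg Subtype.val this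
  have hcard3 : ∀ d, Nat.card {y // Adj d y} = 3 := by
    intro d
    obtain ⟨k, rfl⟩ := MulAction.exists_smul_eq Q a d
    rw [← h3]
    refine Nat.card_congr
      { toFun := fun y => ⟨k⁻¹ • y.1, (hΔa _).1 (by
          have := hinv k⁻¹ _ _ y.2; rwa [inv_smul_smul] at this)⟩
        invFun := fun y => ⟨k • y.1, hinv k _ _ ((hΔa _).2 y.2)⟩
        left_inv := fun y => Subtype.ext (smul_inv_smul k _)
        right_inv := fun y => Subtype.ext (inv_smul_smul k _) }
  have hstep : ∀ c d, Good c → Adj c d → Good d := by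
    intro c d hc hcd
    refine ⟨hc.2 d hcd, fun y hy => ?_⟩
    by_contra hne
    have hgd : g • d = d := hc.2 d hcd
    have hy2 : Adj d (g • y) := by have := hinv g _ _ hy; rwa [hgd] at this
    have hy3 : Adj d (g • g • y) := by have := hinv g _ _ hy2; rwa [hgd] at this
    have hcy : c ≠ y := fun h => hne (h ▸ hc.1)
    have hcgy : c ≠ g • y := fun h => hcy (smul_left_cancel g (hc.1.trans h))
    have hN : (Finset.univ.filter (Adj d)) = {c, y, g • y} := by
      symm
      refine Finset.eq_of_subset_of_card_le ?_ ?_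
      · intro z hz
        simp only [Finset.mem_insert, Finset.mem_singleton] at hz
        rcases hz with rfl | rfl | rfl <;> simp [hsymm _ _ hcd, hy, hy2]
      · rw [Finset.card_eq_three.2 ⟨c, y, g • y, hcy, hcgy, fun h => hne h.symm, rfl⟩,
          ← Fintype.card_subtype, ← Nat.card_eq_fintype_card, hcard3]
    have hmem : g • g • y ∈ ({c, y, g • y} : Finset (Q ⧸ H)) := hN ▸ by simp [hy3]
    simp only [Finset.mem_insert, Finset.mem_singleton] at hmem
    rcases hmem with h | h | h
    · exact hcgy (smul_left_cancel g (hc.1.trans h.symm))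
    · have h3' : g • g • g • y = y := by rw [← mul_smul, ← mul_smul,
        show g * g * g = g ^ 3 by rw [pow_succ, pow_two], hg3, one_smul]
      rw [h] at h3'
      exact hne h3'
    · exact hne (smul_left_cancel g h)
  refine hgne (faithful F hH fun c => ?_)
  obtain ⟨k, rfl⟩ := MulAction.exists_smul_eq Q a c
  have hr : Relation.ReflTransGen Adj a (k • a) := (hMtop ▸ Subgroup.mem_top k : k ∈ M)
  suffices ∀ z, Relation.ReflTransGen Adj a z → Good z from (this _ hr).1
  intro z hz
  induction hz with
  | refl => exact hGa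
  | tail _ h2 ih => exact hstep _ _ ih h2

/-- A subgroup of order 72 is transitive on the nine other cosets. -/
theorem transitive_rest (F : QFacts Q P) (hH : Nat.card H = 72) {c d : Q ⧸ H}
    (hc : c ≠ base H) (hd : d ≠ base H) : ∃ h ∈ H, h • c = d := by
  classical
  haveI := Fintype.ofFinite (Q ⧸ H)
  by_contra hnot
  set a := base H with ha
  let orb : Q ⧸ H → Finset (Q ⧸ H) := fun x => Finset.univ.filter (· ∈ orbit H x)
  have hmem : ∀ x y, y ∈ orb x ↔ y ∈ orbit H x := fun x y => by simp [orb]
  have horb : ∀ x y, y ∈ orb x → orb y = orb x := fun x y h => by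
    have := orbit_eq_iff.2 ((hmem x y).1 h)
    ext z
    rw [hmem, hmem, this]
  have hself : ∀ x, x ∈ orb x := fun x => (hmem x x).2 (mem_orbit_self x)
  have hcardorb : ∀ x, (orb x).card = Nat.card (orbit H x) := fun x => by
    rw [Nat.card_eq_fintype_card, ← Set.toFinset_card]
    congr 1
    ext z
    simp [hmem]
  have hstab : ∀ x : Q ⧸ H, Nat.card (orbit H x) * Nat.card (stabilizer H x) = 72 := fun x => by
    rw [← hH, ← (stabilizer H x).card_mul_index, index_stabilizer, Nat.card_coe_set_eq, mul_comm]
  have hafix : ∀ x, x ≠ a → a ∉ orb x := by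
    intro x hx h
    obtain ⟨k, hk⟩ := (hmem x a).1 h
    exact hx (by
      rw [← inv_smul_smul (k : Q) x, show (k : Q) • x = a from hk]
      exact smul_base.2 (H.inv_mem k.2))
  have hnine : (Finset.univ.erase a).card = 9 := by
    rw [Finset.card_erase_of_mem (Finset.mem_univ a), Finset.card_univ,
      ← Nat.card_eq_fintype_card, card_points F hH]
  have hsub : ∀ x, x ≠ a → orb x ⊆ Finset.univ.erase a := fun x hx z hz =>
    Finset.mem_erase.2 ⟨fun h => hafix x hx (h ▸ hz), Finset.mem_univ _⟩
  have hsize : ∀ x, x ≠ a → (orb x).card % 2 = 1 → (orb x).card = 3 := by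
    intro x hx hodd
    have h9 : (orb x).card < 9 := by
      refine lt_of_le_of_ne (hnine ▸ Finset.card_le_card (hsub x hx)) fun h => hnot ?_
      have he := Finset.eq_of_subset_of_card_le (hsub x hx) (by rw [hnine, h])
      have hcm : c ∈ orb x := he ▸ Finset.mem_erase.2 ⟨hc, Finset.mem_univ _⟩
      have hdm : d ∈ orb x := he ▸ Finset.mem_erase.2 ⟨hd, Finset.mem_univ _⟩
      obtain ⟨k, hk⟩ := (hmem c d).1 (horb x c hcm ▸ hdm)
      exact ⟨k, k.2, hk⟩
    have hdvd : (orb x).card ∣ 72 := ⟨_, by rw [hcardorb]; exact (hstab x).symm⟩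
    have h1 : (orb x).card ≠ 1 := fun h1 => hx (fix_unique F hH fun h hh => by
      obtain ⟨z, hz⟩ := Finset.card_eq_one.1 h1
      have e1 : x ∈ orb x := hself x
      have e2 : h • x ∈ orb x := (hmem _ _).2 ⟨⟨h, hh⟩, rfl⟩
      rw [hz, Finset.mem_singleton] at e1 e2
      exact e2.trans e1.symm)
    have key : ∀ m < 9, m % 2 = 1 → m ≠ 1 → m ∣ 72 → m = 3 := by decide
    exact key _ h9 hodd h1 hdvd
  -- the pairing of suborbits of length three
  set T3 := ((Finset.univ.erase a).image orb).filter fun Δ => Δ.card = 3 with hT3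
  have hodd : (T3.card : ZMod 2) = 1 := by
    have h := Finset.card_eq_sum_card_image orb (Finset.univ.erase a)
    rw [hnine] at h
    have hfib : ∀ Δ ∈ (Finset.univ.erase a).image orb,
        ((Finset.univ.erase a).filter fun x => orb x = Δ) = Δ := by
      intro Δ hΔ
      obtain ⟨x, hx, rfl⟩ := Finset.mem_image.1 hΔ
      ext z
      refine ⟨fun hz => ?_, fun hz => Finset.mem_filter.2 ⟨hsub x (Finset.ne_of_mem_erase hx) hz, horb x z hz⟩⟩
      rw [← (Finset.mem_filter.1 hz).2]
      exact hself z
    have h' : ((9 : ℕ) : ZMod 2) = ∑ Δ ∈ (Finset.univ.erase a).image orb, (Δ.card : ZMod 2) := by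
      rw [h, Nat.cast_sum]
      exact Finset.sum_congr rfl fun Δ hΔ => by rw [hfib Δ hΔ]
    rw [show ((9 : ℕ) : ZMod 2) = 1 from rfl] at h'
    rw [h', hT3, Finset.card_filter, Nat.cast_sum]
    refine Finset.sum_congr rfl fun Δ hΔ => ?_
    obtain ⟨x, hx, rfl⟩ := Finset.mem_image.1 hΔ
    by_cases h3 : (orb x).card = 3
    · rw [if_pos h3, h3]; rfl
    · rw [if_neg h3]
      have h2 : (orb x).card % 2 = 0 := by
        rcases Nat.mod_two_eq_zero_or_one (orb x).card with h | h
        · exact h
        · exact absurd (hsize x (Finset.ne_of_mem_erase hx) h) h3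
      rw [Nat.cast_zero, eq_comm, ZMod.natCast_eq_zero_iff_even, Nat.even_iff]
      exact h2
  let σ : Finset (Q ⧸ H) → Finset (Q ⧸ H) := fun Δ =>
    Finset.univ.filter fun z => ∃ g : Q, g • a ∈ Δ ∧ g • z = a
  have hσorb : ∀ x, ∀ g : Q, g • a = x → σ (orb x) = orb (g⁻¹ • a) := by
    intro x g hg
    ext z
    simp only [σ, Finset.mem_filter, Finset.mem_univ, true_and, hmem]
    constructor
    · rintro ⟨k, ⟨l, hl⟩, hz⟩
      have hl' : (l : Q) • x = k • a := hl
      have hmemH : k⁻¹ * l * g ∈ H := by
        refine smul_base.1 ?_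
        rw [mul_smul, mul_smul, hg, hl', inv_smul_smul]
      refine ⟨⟨_, hmemH⟩, ?_⟩
      show (k⁻¹ * l * g) • g⁻¹ • a = z
      rw [mul_smul, smul_inv_smul, mul_smul, smul_base.2 l.2]
      exact inv_smul_eq_iff.2 hz.symm
    · rintro ⟨l, rfl⟩
      refine ⟨g * (l : Q)⁻¹, ⟨1, ?_⟩, ?_⟩
      · show (1 : Q) • x = _
        rw [one_smul, mul_smul, smul_base.2 (H.inv_mem l.2), hg]
      · show (g * (l : Q)⁻¹) • (l : Q) • g⁻¹ • a = a
        rw [mul_smul, inv_smul_smul, smul_inv_smul]
  have hσcard : ∀ x, ∀ g : Q, g • a = x → (orb (g⁻¹ • a)).card = (orb x).card := by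
    intro x g hg
    have e : Nat.card (stabilizer H (g⁻¹ • a)) = Nat.card (stabilizer H x) := by
      refine Nat.card_congr
        { toFun := fun h => ⟨⟨g * h.1.1 * g⁻¹, smul_base.1 ?_⟩, ?_⟩
          invFun := fun h => ⟨⟨g⁻¹ * h.1.1 * g, smul_base.1 ?_⟩, ?_⟩
          left_inv := fun h => Subtype.ext (Subtype.ext (by group))
          right_inv := fun h => Subtype.ext (Subtype.ext (by group)) }
      · rw [mul_smul, mul_smul, show (h.1 : Q) • g⁻¹ • a = g⁻¹ • a from h.2, smul_inv_smul]
      · show (g * h.1.1 * g⁻¹) • x = x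
        rw [mul_smul, mul_smul, ← hg, inv_smul_smul, smul_base.2 h.1.2]
      · rw [mul_smul, mul_smul, hg, show (h.1 : Q) • x = x from h.2, ← hg, inv_smul_smul]
      · show (g⁻¹ * h.1.1 * g) • g⁻¹ • a = g⁻¹ • a
        rw [mul_smul, mul_smul, smul_inv_smul, smul_base.2 h.1.2]
    have h1 := hstab x
    have h2 := hstab (g⁻¹ • a)
    rw [e, ← h1] at h2
    rw [hcardorb, hcardorb]
    exact Nat.eq_of_mul_eq_mul_right Nat.card_pos h2
  have hσT : ∀ Δ ∈ T3, σ Δ ∈ T3 ∧ σ (σ Δ) = Δ := by
    intro Δ hΔ
    rw [hT3, Finset.mem_filter, Finset.mem_image] at hΔ ⊢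
    obtain ⟨⟨x, hx, rfl⟩, h3⟩ := hΔ
    obtain ⟨g, hg⟩ := MulAction.exists_smul_eq Q a x
    refine ⟨⟨⟨g⁻¹ • a, Finset.mem_erase.2 ⟨fun h => ?_, Finset.mem_univ _⟩, (hσorb x g hg).symm⟩, ?_⟩, ?_⟩
    · refine Finset.ne_of_mem_erase hx ?_
      calc x = g • a := hg.symm
        _ = g • g⁻¹ • a := by rw [h]
        _ = a := smul_inv_smul g a
    · rw [hσorb x g hg, hσcard x g hg, h3]
    · rw [hσorb x g hg, hσorb _ g⁻¹ rfl, inv_inv, hg]
  obtain ⟨Δ, hΔ, hfixΔ⟩ : ∃ Δ ∈ T3, σ Δ = Δ := by
    by_contra! h
    have : ∑ _Δ ∈ T3, (1 : ZMod 2) = 0 := Finset.sum_involution (fun Δ _ => σ Δ)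
      (fun _ _ => by decide) (fun Δ hΔ _ => h Δ hΔ) (fun Δ hΔ => (hσT Δ hΔ).1)
      (fun Δ hΔ => (hσT Δ hΔ).2)
    rw [Finset.sum_const, nsmul_one, hodd] at this
    exact one_ne_zero this
  rw [hT3, Finset.mem_filter, Finset.mem_image] at hΔ
  obtain ⟨⟨x, hx, rfl⟩, h3⟩ := hΔ
  have hxσ : x ∈ σ (orb x) := hfixΔ.symm ▸ hself x
  obtain ⟨g, ⟨l, hl⟩, hgx⟩ : ∃ g : Q, g • a ∈ orbit H x ∧ g • x = a := by
    simpa [σ, hmem] using hxσ
  have hl' : (l : Q) • x = g • a := hl
  refine no_cubic F hH (b := x) (Finset.ne_of_mem_erase hx) (w := (l : Q)⁻¹ * g) ?_ ?_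
    ((hcardorb x).symm.trans h3)
  · rw [mul_smul, ← hl', inv_smul_smul]
  · rw [mul_smul, hgx]
    exact smul_base.2 (H.inv_mem l.2)

/-- A subgroup of order 72 has no central element of order two. -/
theorem not_central (F : QFacts Q P) (hH : Nat.card H = 72) {s : Q} (hs : s ∈ H) (hne : s ≠ 1)
    (hs2 : s * s = 1) (hcomm : ∀ h ∈ H, s * h = h * s) : False := by
  classical
  haveI := Fintype.ofFinite (Q ⧸ H)
  obtain ⟨c, hc, hcs⟩ : ∃ c, c ≠ base H ∧ s • c = c := by
    by_contra! h
    have : ∑ _c ∈ Finset.univ.erase (base H), (1 : ZMod 2) = 0 :=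
      Finset.sum_involution (fun c _ => s • c) (fun _ _ => by decide)
        (fun c hc _ => h c (Finset.ne_of_mem_erase hc))
        (fun c hc => Finset.mem_erase.2 ⟨fun e => Finset.ne_of_mem_erase hc
          (smul_left_cancel s (e.trans (smul_base.2 hs).symm)), Finset.mem_univ _⟩)
        (fun c _ => by rw [← mul_smul, hs2, one_smul])
    rw [Finset.sum_const, nsmul_one, Finset.card_erase_of_mem (Finset.mem_univ _), Finset.card_univ,
      ← Nat.card_eq_fintype_card, card_points F hH] at this
    exact absurd this (by decide)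
  refine hne (faithful F hH fun d => ?_)
  by_cases hd : d = base H
  · rw [hd]; exact smul_base.2 hs
  obtain ⟨h, hh, rfl⟩ := transitive_rest F hH hc hd
  rw [← mul_smul, hcomm h hh, mul_smul, hcs]

/-- A subgroup of order 72 has a Sylow two-subgroup which is not elementary. -/
theorem not_elementary (F : QFacts Q P) (hH : Nat.card H = 72)
    (hexp : ∀ h ∈ H, h ^ 8 = 1 → h * h = 1) : False := by
  classical
  haveI := Fintype.ofFinite (Q ⧸ H)
  haveI : Fact (Nat.Prime 3) := ⟨by norm_num⟩
  haveI : Fact (Nat.Prime 2) := ⟨by norm_num⟩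
  set a := base H with ha
  obtain ⟨c, hc⟩ : ∃ c : Q ⧸ H, c ≠ a := by
    have : Nontrivial (Q ⧸ H) := Finite.one_lt_card_iff_nontrivial.1 (by rw [card_points F hH]; norm_num)
    exact exists_ne a
  -- the stabiliser of a second point
  have hstab : ∀ x : Q ⧸ H, x ≠ a → Nat.card (stabilizer H x) = 8 := fun x hx => by
    have h1 : Nat.card (stabilizer H x) * Nat.card (orbit H x) = 72 := by
      rw [← hH, ← (stabilizer H x).card_mul_index, index_stabilizer, Nat.card_coe_set_eq]
    have h9 : Nat.card (orbit H x) = 9 := by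
      have e : orbit H x = {y | y ≠ a} := by
        ext y
        refine ⟨?_, fun hy => ?_⟩
        · rintro ⟨k, rfl⟩ h
          exact hx (smul_left_cancel (k : Q) ((show (k : Q) • x = a from h).trans (smul_base.2 k.2).symm))
        · obtain ⟨k, hk, e⟩ := transitive_rest F hH hx hy
          exact ⟨⟨k, hk⟩, e⟩
      rw [e, Nat.card_eq_fintype_card]
      have := Fintype.card_subtype_compl (fun y : Q ⧸ H => y = a)
      simp only [Fintype.card_subtype_eq] at this
      rw [← Nat.card_eq_fintype_card (α := Q ⧸ H), card_points F hH] at this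
      exact this
    rw [h9] at h1
    omega
  have hsemi : ∀ d ∈ H, d ^ 3 = 1 → ∀ x, x ≠ a → d • x = x → d = 1 := by
    intro d hd h3 x hx hfix
    have h8 : (⟨d, hd⟩ : H) ^ 8 = 1 := by
      have := pow_card_eq_one' (x := (⟨⟨d, hd⟩, hfix⟩ : stabilizer H x))
      rw [hstab x hx] at this
      exact congrArg Subtype.val this
    have h8' : d ^ 8 = 1 := congrArg Subtype.val h8
    calc d = (d ^ 3) ^ 3 * (d ^ 8)⁻¹ := by group
      _ = 1 := by rw [h3, h8']; group
  set T : Subgroup Q := (stabilizer H c).map H.subtype with hTdef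
  have hT8 : Nat.card T = 8 := by
    rw [Subgroup.card_map_of_injective H.subtype_injective, hstab c hc]
  have hTH : T ≤ H := map_subtype_le _
  have hTc : ∀ t ∈ T, t • c = c := by
    rintro _ ⟨k, hk, rfl⟩
    exact hk
  have hT2 : ∀ t ∈ T, t * t = 1 := fun t ht => hexp t (hTH ht) (by
    have := orderOf_dvd_natCard T ht
    rw [hT8] at this
    exact orderOf_dvd_iff_pow_eq_one.1 this)
  have hTcomm : ∀ s ∈ T, ∀ t ∈ T, s * t = t * s := fun s hs t ht => by
    have h1 := hT2 _ (T.mul_mem hs ht)
    calc s * t = s * t * ((t * s) * (t * s)) := by rw [hT2 _ (T.mul_mem ht hs), mul_one]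
      _ = s * (t * t) * s * t * s := by group
      _ = t * s := by rw [hT2 t ht, mul_one, hT2 s hs, one_mul]
  -- no subgroup of index at most two of T centralises an element of order three
  have key : ∀ d ∈ H, d ≠ 1 → d ^ 3 = 1 →
      4 ≤ Nat.card (centralizer ({d} : Set Q) ⊓ T : Subgroup Q) → False := by
    intro d hd hdne hd3 hT1
    set T1 : Subgroup Q := centralizer ({d} : Set Q) ⊓ T with hT1def
    have hcd : ∀ u ∈ T1, u * d = d * u := fun u hu =>
      mem_centralizer_singleton_iff.1 hu.1
    have hd0 : ∀ x, x ≠ a → d • x ≠ x := fun x hx h => hdne (hsemi d hd hd3 x hx h)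
    have hdd : ∀ x, x ≠ a → d • d • x ≠ x := fun x hx h => hd0 x hx (by
      have : d • d • d • x = x := by
        rw [← mul_smul, ← mul_smul, show d * d * d = d ^ 3 by rw [pow_succ, pow_two], hd3, one_smul]
      rwa [h] at this)
    -- an element fixing two d-orbits is trivial
    have triv : ∀ u ∈ T1, ∀ x, x ≠ a → x ≠ c → x ≠ d • c → x ≠ d • d • c → u • x = x → u = 1 := by
      intro u hu x hxa hx1 hx2 hx3 hux
      refine faithful F hH fun y => ?_
      have hua : u • a = a := smul_base.2 (hTH hu.2)
      have huc : u • c = c := hTc u hu.2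
      have hud : ∀ z : Q ⧸ H, u • z = z → u • d • z = d • z := fun z hz => by
        rw [← mul_smul, hcd u hu, mul_smul, hz]
      by_contra hy
      have hya : y ≠ a := fun h => hy (h ▸ hua)
      have hyd : ∀ z : Q ⧸ H, u • z ≠ z → u • d • z ≠ d • z := fun z hz h => hz (by
        rw [← mul_smul, hcd u hu, mul_smul] at h
        exact smul_left_cancel d h)
      have hu2 : u • u • y = y := by rw [← mul_smul, hT2 u hu.2, one_smul]
      have hyy : u • y ≠ d • y := fun h => by
        have : u • u • y = d • d • y := by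
          rw [h, ← mul_smul, hcd u hu, mul_smul, h]
        rw [hu2] at this
        exact hdd y hya this.symm
      have hyy2 : u • y ≠ d • d • y := fun h => by
        have : u • u • y = d • d • d • d • y := by
          rw [h, ← mul_smul u, hcd u hu, mul_smul, ← mul_smul u, hcd u hu, mul_smul, h]
        rw [hu2, show d • d • d • d • y = d • y by
          rw [← mul_smul, ← mul_smul, ← mul_smul,
            show d * d * d * d = d ^ 3 * d by rw [pow_succ, pow_two], hd3, one_mul]] at this
        exact hd0 y hya this.symm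
      let moved : Finset (Q ⧸ H) := Finset.univ.filter fun z => u • z ≠ z
      let fixd : Finset (Q ⧸ H) := {a, c, d • c, d • d • c, x, d • x, d • d • x}
      have h4 : ({y, d • y, d • d • y, u • y} : Finset (Q ⧸ H)) ⊆ moved := by
        intro z hz
        simp only [Finset.mem_insert, Finset.mem_singleton] at hz
        rcases hz with rfl | rfl | rfl | rfl
        · simp [moved, hy]
        · simp [moved, hyd y hy]
        · simp [moved, hyd _ (hyd y hy)]
        · simp only [moved, Finset.mem_filter, Finset.mem_univ, true_and, hu2]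
          exact fun h => hy h.symm
      have h7 : fixd ⊆ Finset.univ.filter fun z => u • z = z := by
        intro z hz
        simp only [fixd, Finset.mem_insert, Finset.mem_singleton] at hz
        rcases hz with rfl | rfl | rfl | rfl | rfl | rfl | rfl
        · simp [hua]
        · simp [huc]
        · simp [hud c huc]
        · simp [hud _ (hud c huc)]
        · simp [hux]
        · simp [hud _ hux]
        · simp [hud _ (hud _ hux)]
      have hc4 : ({y, d • y, d • d • y, u • y} : Finset (Q ⧸ H)).card = 4 := by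
        have n1 : y ≠ d • y := (hd0 y hya).symm
        have n2 : y ≠ d • d • y := (hdd y hya).symm
        have n3 : y ≠ u • y := fun h => hy h.symm
        have n4 : d • y ≠ d • d • y := fun h => n1 (smul_left_cancel d h)
        simp [n1, n2, n3, n4, hyy.symm, hyy2.symm]
      have hc7 : fixd.card = 7 := by
        have hda : ∀ z, z ≠ a → d • z ≠ a := fun z hz h =>
          hz (smul_left_cancel d (h.trans (smul_base.2 hd).symm))
        have e1 : a ≠ c := hc.symm
        have e2 : a ≠ d • c := (hda c hc).symm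
        have e3 : a ≠ d • d • c := (hda _ (hda c hc)).symm
        have e4 : a ≠ x := hxa.symm
        have e5 : a ≠ d • x := (hda x hxa).symm
        have e6 : a ≠ d • d • x := (hda _ (hda x hxa)).symm
        have f1 : c ≠ d • c := (hd0 c hc).symm
        have f2 : c ≠ d • d • c := (hdd c hc).symm
        have f3 : d • c ≠ d • d • c := fun h => f1 (smul_left_cancel d h)
        have g1 : x ≠ d • x := (hd0 x hxa).symm
        have g2 : x ≠ d • d • x := (hdd x hxa).symm
        have g3 : d • x ≠ d • d • x := fun h => g1 (smul_left_cancel d h)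
        have d3 : ∀ z : Q ⧸ H, d • d • d • z = z := fun z => by
          rw [← mul_smul, ← mul_smul, show d * d * d = d ^ 3 by rw [pow_succ, pow_two], hd3, one_smul]
        have k1 : c ≠ x := hx1.symm
        have k2 : c ≠ d • x := fun h => hx3 (by rw [h, d3])
        have k3 : c ≠ d • d • x := fun h => hx2 (by rw [h, d3])
        have k4 : d • c ≠ x := hx2.symm
        have k5 : d • c ≠ d • x := fun h => k1 (smul_left_cancel d h)
        have k6 : d • c ≠ d • d • x := fun h => k2 (smul_left_cancel d h)
        have k7 : d • d • c ≠ x := hx3.symm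
        have k8 : d • d • c ≠ d • x := fun h => k4 (smul_left_cancel d h)
        have k9 : d • d • c ≠ d • d • x := fun h => k5 (smul_left_cancel d h)
        simp [fixd, e1, e2, e3, e4, e5, e6, f1, f2, f3, g1, g2, g3, k1, k2, k3, k4, k5, k6, k7, k8,
          k9]
      have h' := Finset.card_filter_add_card_filter_not (s := (Finset.univ : Finset (Q ⧸ H)))
        (fun z => u • z = z)
      rw [Finset.card_univ, ← Nat.card_eq_fintype_card, card_points F hH] at h'
      have := Finset.card_le_card h4
      have := Finset.card_le_card h7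
      rw [hc4] at *
      simp only [moved, ne_eq] at *
      omega
    -- T1 with d moves a further point to too many places
    obtain ⟨x, hx⟩ : ∃ x, x ∉ ({a, c, d • c, d • d • c} : Finset (Q ⧸ H)) := by
      have h4 : ({a, c, d • c, d • d • c} : Finset (Q ⧸ H)).card ≤ 4 := Finset.card_le_four
      refine (Finset.exists_mem_notMem_of_card_lt_card (t := Finset.univ) ?_).imp fun x h => h.2
      rw [Finset.card_univ, ← Nat.card_eq_fintype_card, card_points F hH]
      omega
    simp only [Finset.mem_insert, Finset.mem_singleton, not_or] at hx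
    obtain ⟨hxa, hxc, hxd, hxdd⟩ := hx
    let p : T1 × Fin 3 → Q ⧸ H := fun z => (z.1 : Q) • d ^ (z.2 : ℕ) • x
    have hp : Function.Injective p := by
      rintro ⟨s, i⟩ ⟨t, j⟩ h
      have h' : ((t : Q)⁻¹ * s) • d ^ (i : ℕ) • x = d ^ (j : ℕ) • x := by
        rw [mul_smul, inv_smul_eq_iff]
        exact h
      set u : Q := (t : Q)⁻¹ * s with hu
      have huT : u ∈ T1 := T1.mul_mem (T1.inv_mem t.2) s.2
      have hud : ∀ (n : ℕ) (z : Q ⧸ H), u • d ^ n • z = d ^ n • u • z := fun n z => by
        rw [← mul_smul, ((show Commute u d from hcd u huT).pow_right n).eq, mul_smul]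
      rw [hud] at h'
      have hij : i = j := by
        by_contra hne
        have h2 : d ^ (2 * (i : ℕ)) • x = d ^ (2 * (j : ℕ)) • x := by
          calc d ^ (2 * (i : ℕ)) • x = d ^ (i : ℕ) • d ^ (i : ℕ) • x := by rw [two_mul, pow_add, mul_smul]
            _ = d ^ (i : ℕ) • d ^ (i : ℕ) • u • u • x := by rw [← mul_smul u, hT2 u huT.2, one_smul]
            _ = d ^ (i : ℕ) • u • d ^ (j : ℕ) • x := by rw [← hud, h']
            _ = d ^ (j : ℕ) • d ^ (j : ℕ) • x := by
              rw [hud, ← mul_smul, ← pow_add, add_comm, pow_add, mul_smul, h']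
            _ = d ^ (2 * (j : ℕ)) • x := by rw [two_mul, pow_add, mul_smul]
        have hneg : d • x ≠ x ∧ d • d • x ≠ x := ⟨hd0 x hxa, hdd x hxa⟩
        have e4 : d ^ 4 = d := by rw [pow_succ, hd3, one_mul]
        have hi := i.2
        have hj := j.2
        have : (i : ℕ) ≠ (j : ℕ) := fun e => hne (Fin.ext e)
        interval_cases (i : ℕ) <;> interval_cases (j : ℕ) <;>
          simp [e4, pow_two, mul_smul] at h2 this <;>
          first
            | exact hneg.1 h2
            | exact hneg.1 h2.symm
            | exact hneg.2 h2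
            | exact hneg.2 h2.symm
      subst hij
      have hux : u • x = x := smul_left_cancel _ h'
      have := triv u huT x hxa hxc hxd hxdd hux
      rw [hu, inv_mul_eq_one] at this
      exact Prod.ext (Subtype.ext this.symm) rfl
    have h12 : Nat.card (T1 × Fin 3) ≤ Nat.card {y : Q ⧸ H // y ∉ ({a, c, d • c, d • d • c} : Finset _)} := by
      refine Nat.card_le_card_of_injective (fun z => ⟨p z, fun hz => ?_⟩)
        fun z z' h => hp (congrArg Subtype.val h)
      have hu : (z.1 : Q) ∈ T1 := z.1.2
      set n := (z.2 : ℕ)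
      have hzz : d ^ n • x ∈ ({a, c, d • c, d • d • c} : Finset (Q ⧸ H)) := by
        have h1 : ∀ w ∈ ({a, c, d • c, d • d • c} : Finset (Q ⧸ H)),
            (z.1 : Q) • w = w := by
          intro w hw
          simp only [Finset.mem_insert, Finset.mem_singleton] at hw
          rcases hw with rfl | rfl | rfl | rfl
          · exact smul_base.2 (hTH hu.2)
          · exact hTc _ hu.2
          · rw [← mul_smul, hcd _ hu, mul_smul, hTc _ hu.2]
          · rw [← mul_smul, hcd _ hu, mul_smul, ← mul_smul (z.1 : Q) d c, hcd _ hu, mul_smul,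
              hTc _ hu.2]
        have := h1 _ hz
        rwa [smul_left_cancel _ this] at hz
      simp only [Finset.mem_insert, Finset.mem_singleton] at hzz
      have d3 : ∀ w : Q ⧸ H, d • d • d • w = w := fun w => by
        rw [← mul_smul, ← mul_smul, show d * d * d = d ^ 3 by rw [pow_succ, pow_two], hd3, one_smul]
      have hn : n < 3 := z.2.2
      have hda : d • a = a := smul_base.2 hd
      interval_cases n
      · simp only [pow_zero, one_smul] at hzz
        rcases hzz with h | h | h | h
        exacts [hxa h, hxc h, hxd h, hxdd h]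
      · simp only [pow_one] at hzz
        rcases hzz with h | h | h | h
        · exact hxa (smul_left_cancel d (h.trans hda.symm))
        · exact hxdd (by rw [← h, d3])
        · exact hxc (smul_left_cancel d h)
        · exact hxd (smul_left_cancel d h)
      · simp only [pow_two, mul_smul] at hzz
        rcases hzz with h | h | h | h
        · exact hxa (smul_left_cancel d (smul_left_cancel d (h.trans (by rw [hda, hda]))))
        · exact hxd (by rw [← h, d3])
        · exact hxdd (by rw [← smul_left_cancel d h, d3])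
        · exact hxc (smul_left_cancel d (smul_left_cancel d h))
    have hcc : Nat.card {y : Q ⧸ H // y ∉ ({a, c, d • c, d • d • c} : Finset _)} = 6 := by
      rw [Nat.card_eq_fintype_card, Fintype.card_subtype_compl, Fintype.card_coe,
        ← Nat.card_eq_fintype_card, card_points F hH]
      have n1 : a ≠ c := hc.symm
      have n2 : a ≠ d • c := fun h => hc (smul_left_cancel d (h.symm.trans (smul_base.2 hd).symm))
      have n3 : a ≠ d • d • c := fun h => n2 (smul_left_cancel d ((smul_base.2 hd).trans h))
      have f1 : c ≠ d • c := (hd0 c hc).symm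
      have f2 : c ≠ d • d • c := (hdd c hc).symm
      have f3 : d • c ≠ d • d • c := fun h => f1 (smul_left_cancel d h)
      simp [n1, n2, n3, f1, f2, f3]
    rw [Nat.card_prod, Nat.card_fin, hcc] at h12
    omega
  -- the Sylow 3-subgroup
  obtain ⟨S, hS⟩ : ∃ E : Subgroup Q, E ≤ H ∧ Nat.card E = 9 := by
    obtain ⟨E, hE⟩ := Sylow.exists_subgroup_card_pow_prime (G := H) 3 (n := 2)
      (by rw [hH]; norm_num)
    exact ⟨E.map H.subtype, map_subtype_le _, by
      rw [Subgroup.card_map_of_injective H.subtype_injective, hE]; norm_num⟩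
  obtain ⟨hSH, hS9⟩ := hS
  have hScomm : ∀ x ∈ S, ∀ y ∈ S, x * y = y * x := fun x hx y hy =>
    congrArg Subtype.val (IsPGroup.commutative_of_card_eq_prime_sq (p := 3) (G := S)
      (by rw [hS9]; norm_num) ⟨x, hx⟩ ⟨y, hy⟩)
  have hS3 : ∀ e ∈ S, e ≠ 1 → e ^ 3 = 1 ∨ ∃ e' ∈ S, e' ≠ 1 ∧ e' ^ 3 = 1 ∧ e' = e ^ 3 := by
    intro e he hne
    by_cases h : e ^ 3 = 1
    · exact Or.inl h
    · refine Or.inr ⟨e ^ 3, S.pow_mem he 3, h, ?_, rfl⟩
      have := orderOf_dvd_natCard S he
      rw [hS9] at this
      rw [← pow_mul]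
      exact orderOf_dvd_iff_pow_eq_one.1 this
  by_cases hnorm : ∀ h ∈ H, ∀ e ∈ S, h * e * h⁻¹ ∈ S
  · -- T acts on S
    obtain ⟨e, he, hene, he3⟩ : ∃ e ∈ S, e ≠ 1 ∧ e ^ 3 = 1 := by
      obtain ⟨g, hg⟩ := exists_prime_orderOf_dvd_card' (G := S) 3 (by rw [hS9]; norm_num)
      refine ⟨g, g.2, fun h => ?_, ?_⟩
      · rw [Subtype.coe_injective (a₁ := g) (a₂ := 1) h, orderOf_one] at hg
        omega
      · have : g ^ 3 = 1 := by rw [← hg, pow_orderOf_eq_one]
        exact congrArg Subtype.val this
    have conjT : ∀ t ∈ T, ∀ x ∈ S, t * x * t ∈ S := fun t ht x hx => by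
      have := hnorm t (hTH ht) x hx
      rwa [inv_eq_of_mul_eq_one_right (hT2 t ht)] at this
    by_cases hfree : ∀ t ∈ T, t ≠ 1 → ∀ x ∈ S, x ≠ 1 → t * x ≠ x * t
    · -- a regular action on eight elements
      let f : T → {x : S // x ≠ 1} := fun t => ⟨⟨t * e * t, conjT t t.2 e he⟩, fun h => hene (by
        have h' : (t : Q) * e * t = 1 := congrArg Subtype.val h
        calc e = ((t : Q) * t) * e * (t * t) := by rw [hT2 t t.2]; group
          _ = (t : Q) * (t * e * t) * t := by group
          _ = 1 := by rw [h', mul_one, hT2 t t.2])⟩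
      have hf : Function.Injective f := by
        intro s t h
        have h' : (s : Q) * e * s = t * e * t := congrArg (fun z => ((z.1 : S) : Q)) h
        by_contra hne
        refine hfree _ (T.mul_mem t.2 s.2) (fun h1 => hne (Subtype.ext ?_)) e he hene ?_
        · calc (s : Q) = (t * t) * s := by rw [hT2 t t.2, one_mul]
            _ = t * (t * s) := by group
            _ = t := by rw [h1, mul_one]
        · calc (t : Q) * s * e = t * (s * e * s) * s := by
                rw [mul_assoc _ (s * e * s), mul_assoc (s * e : Q), hT2 s s.2]; group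
            _ = t * (t * e * t) * s := by rw [h']
            _ = e * (t * s) := by
                rw [← mul_assoc (t : Q), ← mul_assoc (t : Q), hT2 t t.2]; group
      have hsurj : Function.Surjective f := by
        haveI := Fintype.ofFinite S
        refine ((Nat.bijective_iff_injective_and_card f).2 ⟨hf, ?_⟩).2
        rw [hT8, Nat.card_eq_fintype_card, Fintype.card_subtype_compl, Fintype.card_subtype_eq,
          ← Nat.card_eq_fintype_card, hS9]
      have inv3 : ∀ x : Q, x ^ 3 = 1 → x⁻¹ = x * x := fun x hx =>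
        inv_eq_of_mul_eq_one_right (by rw [← mul_assoc, ← pow_three', hx])
      obtain ⟨t0, ht0⟩ := hsurj ⟨⟨e⁻¹, S.inv_mem he⟩, fun h => hene (inv_eq_one.1 (congrArg Subtype.val h))⟩
      have ht0' : (t0 : Q) * e * t0 = e⁻¹ := congrArg (fun z => ((z.1 : S) : Q)) ht0
      have hall : ∀ x ∈ S, x ≠ 1 → (t0 : Q) * x * t0 = x⁻¹ := by
        intro x hx hxne
        obtain ⟨t, ht⟩ := hsurj ⟨⟨x, hx⟩, fun h => hxne (congrArg Subtype.val h)⟩
        have ht' : (t : Q) * e * t = x := congrArg (fun z => ((z.1 : S) : Q)) ht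
        have hcm := hTcomm _ t0.2 _ t.2
        rw [← ht']
        calc (t0 : Q) * (t * e * t) * t0 = (t0 * t) * e * (t * t0) := by group
          _ = (t * t0) * e * (t0 * t) := by rw [hcm]
          _ = (t : Q) * (t0 * e * t0) * t := by group
          _ = (t : Q) * e⁻¹ * t := by rw [ht0']
          _ = ((t : Q)⁻¹ * e * (t : Q)⁻¹)⁻¹ := by group
          _ = _ := by rw [inv_eq_of_mul_eq_one_right (hT2 t t.2)]
      have hcard : ∃ t : T, t ≠ 1 ∧ t ≠ t0 := by
        classical
        haveI := Fintype.ofFinite T
        have : (({1, t0} : Finset T)).card < (Finset.univ : Finset T).card := by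
          rw [Finset.card_univ, ← Nat.card_eq_fintype_card, hT8]
          exact lt_of_le_of_lt Finset.card_le_two (by norm_num)
        obtain ⟨t, -, ht⟩ := Finset.exists_mem_notMem_of_card_lt_card this
        simp only [Finset.mem_insert, Finset.mem_singleton, not_or] at ht
        exact ⟨t, ht.1, ht.2⟩
      obtain ⟨t, ht1, ht2⟩ := hcard
      set y := (t : Q) * e * t with hy
      have hyS : y ∈ S := conjT t t.2 e he
      have hy1 : e * y ≠ 1 := by
        intro h
        apply ht2
        apply hf
        rw [ht0]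
        exact Subtype.ext (Subtype.ext (eq_inv_of_mul_eq_one_right h))
      refine hfree t t.2 (fun h => ht1 (Subtype.ext h)) _ (S.mul_mem he hyS) hy1 ?_
      calc (t : Q) * (e * y) = ((t : Q) * e * t) * (t * y * t) * t := by
            rw [show (t : Q) * e * t * (t * y * t) * t = t * e * (t * t) * y * (t * t) by group,
              hT2 t t.2]; group
        _ = y * e * t := by
          rw [show (t : Q) * y * t = e by
            rw [hy, show (t : Q) * (t * e * t) * t = (t * t) * e * (t * t) by group, hT2 t t.2]; group]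
        _ = e * y * t := by rw [hScomm y hyS e he]
    · push Not at hfree
      obtain ⟨t, ht, htne, x, hx, hxne, htx⟩ := hfree
      let W : Subgroup Q := centralizer ({t} : Set Q) ⊓ S
      have hxW : x ∈ W := ⟨mem_centralizer_singleton_iff.2 htx.symm, hx⟩
      have hW : Nat.card W = 3 ∨ Nat.card W = 9 := by
        have hd : Nat.card W ∣ 9 := hS9 ▸ card_dvd_of_le inf_le_right
        have h1 : Nat.card W ≠ 1 := fun h => hxne (by
          rw [card_eq_one] at h; rw [h] at hxW; exact hxW)
        have key : ∀ m < 10, m ∣ 9 → m ≠ 1 → m = 3 ∨ m = 9 := by decide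
        exact key _ (Nat.lt_succ_of_le (Nat.le_of_dvd (by norm_num) hd)) hd h1
      rcases hW with hW | hW
      · -- T preserves the fixed subgroup of t
        have hWT : ∀ s ∈ T, s * x * s = x ∨ s * x * s = x * x := by
          intro s hs
          have hsW : s * x * s ∈ W := by
            refine ⟨mem_centralizer_singleton_iff.2 ?_, conjT s hs x hx⟩
            calc s * x * s * t = s * x * (s * t) := by group
              _ = s * x * (t * s) := by rw [hTcomm s hs t ht]
              _ = s * (x * t) * s := by group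
              _ = s * (t * x) * s := by rw [htx]
              _ = (s * t) * x * s := by group
              _ = (t * s) * x * s := by rw [hTcomm s hs t ht]
              _ = _ := by group
          have hz : zpowers x = W := eq_of_le_of_card_ge (zpowers_le.2 hxW) (by
            rw [hW, Nat.card_zpowers]
            have h3 := orderOf_dvd_natCard W hxW
            rw [hW] at h3
            rcases (Nat.dvd_prime (by norm_num)).1 h3 with h | h
            · exact absurd (orderOf_eq_one_iff.1 h) hxne
            · omega)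
          rw [← hz, mem_zpowers_iff_mem_range_orderOf, show orderOf x = 3 by
            rw [← Nat.card_zpowers, hz, hW]] at hsW
          simp only [Finset.mem_image, Finset.mem_range] at hsW
          obtain ⟨k, hk, e'⟩ := hsW
          interval_cases k
          · exfalso
            refine hxne ?_
            rw [pow_zero] at e'
            calc x = (s * s) * x * (s * s) := by rw [hT2 s hs]; group
              _ = s * (s * x * s) * s := by group
              _ = 1 := by rw [← e', mul_one, hT2 s hs]
          · exact Or.inl (by rw [← e', pow_one])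
          · exact Or.inr (by rw [← e', sq])
        have hx3 : x ^ 3 = 1 := by
          have h3 := orderOf_dvd_natCard W hxW
          rw [hW] at h3
          exact orderOf_dvd_iff_pow_eq_one.1 h3
        refine key x (hSH hx) hxne hx3 ?_
        set T1 : Subgroup Q := centralizer ({x} : Set Q) ⊓ T
        by_contra hlt
        obtain ⟨s, hsT, hs1⟩ : ∃ s ∈ T, s ∉ T1 := by
          by_contra! h
          have := Nat.card_le_card_of_injective (Subgroup.inclusion (show T ≤ T1 from h))
            (Subgroup.inclusion_injective _)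
          omega
        have hs2 : s * x * s = x * x := (hWT s hsT).resolve_left fun h => hs1
          ⟨mem_centralizer_singleton_iff.2 (by
            calc s * x = s * x * (s * s) := by rw [hT2 s hsT, mul_one]
              _ = (s * x * s) * s := by group
              _ = x * s := by rw [h]), hsT⟩
        have hle : Nat.card T ≤ Nat.card (T1 × Fin 2) := by
          refine Nat.card_le_card_of_injective
            (fun r : T => if h : (r : Q) ∈ T1 then ((⟨r, h⟩, 0) : T1 × Fin 2) else
              (⟨s * r, ?_⟩, 1)) ?_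
          · refine ⟨mem_centralizer_singleton_iff.2 ?_, T.mul_mem hsT r.2⟩
            have hr2 : (r : Q) * x * r = x * x := (hWT r r.2).resolve_left fun h' => h
              ⟨mem_centralizer_singleton_iff.2 (by
                calc (r : Q) * x = r * x * (r * r) := by rw [hT2 r r.2, mul_one]
                  _ = (r * x * r) * r := by group
                  _ = x * r := by rw [h']), r.2⟩
            calc s * (r : Q) * x = s * (r * x * r) * r := by
                  rw [show s * ((r : Q) * x * r) * r = s * r * x * (r * r) by group, hT2 r r.2, mul_one]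
              _ = (s * x * s) * (s * x * s) * (s * r) := by
                  rw [hr2, show s * x * s * (s * x * s) * (s * (r : Q)) =
                    s * x * (s * s) * x * (s * s) * r by group, hT2 s hsT]; group
              _ = x ^ 3 * x * (s * r) := by rw [hs2]; simp only [pow_succ, pow_zero, one_mul, mul_assoc]
              _ = x * (s * r) := by rw [hx3, one_mul]
          · intro r r' h
            by_cases h1 : (r : Q) ∈ T1 <;> by_cases h2 : (r' : Q) ∈ T1 <;>
              simp [h1, h2] at h
            · exact h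
            · exact Subtype.ext (mul_left_cancel (congrArg (fun z : T1 => (z : Q)) h))
        rw [hT8, Nat.card_prod, Nat.card_fin] at hle
        omega
      · -- t centralises everything
        have hWS : W = S := eq_of_le_of_card_ge inf_le_right (by rw [hW, hS9])
        set K : Subgroup Q := centralizer ({t} : Set Q) ⊓ H
        have hSK : S ≤ K := le_inf (hWS ▸ inf_le_left) hSH
        have hTK : T ≤ K := le_inf (fun s hs => mem_centralizer_singleton_iff.2 (hTcomm s hs t ht)) hTH
        have h72 : 72 ∣ Nat.card K := by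
          have h9 : 9 ∣ Nat.card K := hS9 ▸ card_dvd_of_le hSK
          have h8 : 8 ∣ Nat.card K := hT8 ▸ card_dvd_of_le hTK
          exact (show Nat.Coprime 8 9 by norm_num).mul_dvd_of_dvd_of_dvd h8 h9
        have hK : K = H := eq_of_le_of_card_ge inf_le_right
          (hH ▸ Nat.le_of_dvd Nat.card_pos h72)
        exact not_central F hH (hTH ht) htne (hT2 t ht) fun h hh =>
          ((mem_centralizer_singleton_iff.1 ((hK ▸ hh : h ∈ K)).1)).symm
  · -- two Sylow 3-subgroups meet
    push Not at hnorm
    obtain ⟨h, hh, e0, he0, hne0⟩ := hnorm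
    set S' := S.map (MulAut.conj h).toMonoidHom with hS'
    have hS'9 : Nat.card S' = 9 := by
      rw [Subgroup.card_map_of_injective (MulAut.conj h).injective, hS9]
    have hS'H : S' ≤ H := by
      rintro _ ⟨k, hk, rfl⟩
      exact H.mul_mem (H.mul_mem hh (hSH hk)) (H.inv_mem hh)
    have hS'comm : ∀ x ∈ S', ∀ y ∈ S', x * y = y * x := by
      rintro _ ⟨x, hx, rfl⟩ _ ⟨y, hy, rfl⟩
      rw [← map_mul, ← map_mul, hScomm x hx y hy]
    set M := S ⊔ S' with hM
    have hMH : M ≤ H := sup_le hSH hS'H
    obtain ⟨d, hdS, hdS', hdne⟩ : ∃ d, d ∈ S ∧ d ∈ S' ∧ d ≠ 1 := by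
      by_contra! hno
      have hinj : Function.Injective (fun z : S × S' => (⟨(z.1 : Q) * z.2,
          M.mul_mem (le_sup_left (b := S') z.1.2) (le_sup_right (a := S) z.2.2)⟩ : M)) := by
        rintro ⟨x, y⟩ ⟨x', y'⟩ e
        have e' : (x : Q) * y = x' * y' := congrArg Subtype.val e
        have h1 : (x' : Q)⁻¹ * x = y' * (y : Q)⁻¹ := by
          rw [eq_mul_inv_iff_mul_eq, mul_assoc, e', inv_mul_cancel_left]
        have := hno _ (S.mul_mem (S.inv_mem x'.2) x.2) (h1 ▸ S'.mul_mem y'.2 (S'.inv_mem y.2))
        have hx : x = x' := Subtype.ext (inv_mul_eq_one.1 this).symm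
        subst hx
        rw [Prod.mk.injEq]
        exact ⟨rfl, Subtype.ext (mul_left_cancel e')⟩
      have := Nat.card_le_card_of_injective _ hinj
      have := hH ▸ Nat.le_of_dvd (by rw [hH]; norm_num) (card_dvd_of_le hMH)
      rw [Nat.card_prod, hS9, hS'9] at *
      omega
    have hd3' : ∃ d', d' ∈ S ∧ d' ∈ S' ∧ d' ≠ 1 ∧ d' ^ 3 = 1 := by
      rcases hS3 d hdS hdne with h3 | ⟨d', h1, h2, h3, h4⟩
      · exact ⟨d, hdS, hdS', hdne, h3⟩
      · exact ⟨d', h1, h4 ▸ S'.pow_mem hdS' 3, h2, h3⟩
    obtain ⟨d', hd1, hd2, hd'ne, hd'3⟩ := hd3'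
    set K := centralizer ({d'} : Set Q) ⊓ H
    have hMK : M ≤ K := sup_le
      (le_inf (fun x hx => mem_centralizer_singleton_iff.2 (hScomm x hx d' hd1)) hSH)
      (le_inf (fun x hx => mem_centralizer_singleton_iff.2 (hS'comm x hx d' hd2)) hS'H)
    have h36 : 36 ≤ Nat.card M := by
      have hd : Nat.card M ∣ 72 := hH ▸ card_dvd_of_le hMH
      obtain ⟨m, hm⟩ : 9 ∣ Nat.card M := hS9 ▸ card_dvd_of_le (le_sup_left (b := S'))
      have hm8 : m ∣ 8 := Nat.dvd_of_mul_dvd_mul_left (by norm_num : 0 < 9)
        (by rw [← hm]; exact hd)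
      have hmle := Nat.le_of_dvd (by norm_num) hm8
      have hS'not : ¬ S' ≤ S := fun hle => hne0 (hle ⟨e0, he0, rfl⟩)
      have hm1 : m ≠ 1 := fun h1 => hS'not (by
        have : S = M := eq_of_le_of_card_ge le_sup_left (by rw [hm, h1, hS9])
        exact this ▸ le_sup_right)
      have hm2 : m ≠ 2 := fun h2 => hS'not (by
        intro z hz
        have hidx : (S.subgroupOf M).index = 2 := by
          have := (S.subgroupOf M).card_mul_index
          rw [Nat.card_congr (subgroupOfEquivOfLe (le_sup_left (b := S'))).toEquiv, hS9, hm, h2] at this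
          omega
        haveI : (S.subgroupOf M).Normal := normal_of_index_eq_two hidx
        let z' : M := ⟨z, le_sup_right (a := S) hz⟩
        have ho : orderOf z' ∣ 9 := by
          rw [← Subgroup.orderOf_coe]; exact hS'9 ▸ orderOf_dvd_natCard S' hz
        have h1 : orderOf (QuotientGroup.mk' (S.subgroupOf M) z') ∣ 9 := (orderOf_map_dvd _ z').trans ho
        have h2' : orderOf (QuotientGroup.mk' (S.subgroupOf M) z') ∣ 2 := by
          rw [← hidx, index_eq_card]; exact _root_.orderOf_dvd_natCard _
        have : orderOf (QuotientGroup.mk' (S.subgroupOf M) z') = 1 :=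
          Nat.dvd_one.1 ((show Nat.gcd 9 2 = 1 by rfl) ▸ Nat.dvd_gcd h1 h2')
        exact mem_subgroupOf.1 ((QuotientGroup.eq_one_iff z').1 (orderOf_eq_one_iff.1 this)))
      rw [hm]
      interval_cases m <;> omega
    have hKi : K.relIndex H ≤ 2 := by
      have h := (K.subgroupOf H).card_mul_index
      rw [Nat.card_congr (subgroupOfEquivOfLe (inf_le_right : K ≤ H)).toEquiv, hH] at h
      have hle := h36.trans (Nat.le_of_dvd Nat.card_pos (card_dvd_of_le hMK))
      show (K.subgroupOf H).index ≤ 2
      nlinarith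
    have hne' : K.relIndex H ≠ 0 := Subgroup.index_ne_zero_of_finite
    have hTi : (centralizer ({d'} : Set Q) ⊓ T).relIndex T ≤ 2 := by
      have h1 := relIndex_le_of_le_right hTH hne'
      have h2 : K.relIndex T = (centralizer ({d'} : Set Q) ⊓ T).relIndex T := by
        rw [inf_relIndex_right, ← inf_relIndex_right K T]
        rw [show K ⊓ T = centralizer ({d'} : Set Q) ⊓ T by
          rw [inf_assoc, inf_eq_right.2 hTH], inf_relIndex_right]
      omega
    have h4 : 4 ≤ Nat.card (centralizer ({d'} : Set Q) ⊓ T : Subgroup Q) := by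
      have h := ((centralizer ({d'} : Set Q) ⊓ T).subgroupOf T).card_mul_index
      rw [Nat.card_congr (subgroupOfEquivOfLe (inf_le_right : _ ≤ T)).toEquiv, hT8] at h
      have hTi' : ((centralizer ({d'} : Set Q) ⊓ T).subgroupOf T).index ≤ 2 := hTi
      nlinarith
    exact key d' (hSH hd1) hd'ne hd'3 h4

end H4.MTwelveNse
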