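import Cfsg.Agent.H37.MTwelveNse.Base
import Cfsg.Agent.H4.MTwelveNse.CentAOrbit

/-!
Recognition of M12 by the numbers of elements of equal order: an involution commuting with an
element of order five has centraliser of order 240.
-/

set_option autoImplicit false
set_option linter.style.haveILetI false

namespace H4.MTwelveNse

open Subgroup
open H78.M22R (cnt cz)
open H37.MTwelveNse (Facts CentA)

variable {G : Type*} [Group G] [Finite G]

omit [Finite G] in
theorem order_bad (F : Facts G) (g : G) (n : ℕ)
    (hn : n ∉ ({1, 2, 3, 4, 5, 6, 8, 10, 11} : Finset ℕ)) : orderOf g ≠ n := fun h =>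
  hn (h ▸ F.orders g)

/-- The product of an involution with an element of order five centralising it generates the
centraliser of the latter. -/
theorem cz_five_eq (F : Facts G) {t z : G} (ht : orderOf t = 2) (hz : orderOf z = 5)
    (hc : Commute t z) : zpowers (t * z) = cz z ∧ orderOf (t * z) = 10 := by
  have ho : orderOf (t * z) = 10 := by
    rw [hc.orderOf_mul_eq_mul_orderOf_of_coprime (by rw [ht, hz]; norm_num), ht, hz]
  refine ⟨eq_of_le_of_card_ge (zpowers_le.2 (H78.M22R.mem_cz.2 ?_)) ?_, ho⟩
  · exact hc.mul_left (Commute.refl z)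
  · rw [F.cent5 z hz, Nat.card_zpowers, ho]

/-- An element of order five centralises one involution only. -/
theorem inv_unique (F : Facts G) {t t' z : G} (ht : orderOf t = 2) (ht' : orderOf t' = 2)
    (hz : orderOf z = 5) (hc : Commute t z) (hc' : Commute t' z) : t' = t := by
  classical
  obtain ⟨hzp, ho⟩ := cz_five_eq F ht hz hc
  have hm : t' ∈ zpowers (t * z) := hzp ▸ H78.M22R.mem_cz.2 hc'
  rw [mem_zpowers_iff_mem_range_orderOf, ho] at hm
  simp only [Finset.mem_image, Finset.mem_range] at hm
  obtain ⟨k, hk, rfl⟩ := hm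
  have h2 := ht'
  rw [orderOf_pow, ho] at h2
  have hk5 : k = 5 := by
    interval_cases k <;> simp at h2 ⊢
  subst hk5
  rw [hc.mul_pow, show z ^ 5 = 1 by rw [← hz, pow_orderOf_eq_one], mul_one,
    show t ^ 5 = t ^ 2 * t ^ 2 * t by group, show t ^ 2 = 1 by rw [← ht, pow_orderOf_eq_one],
    one_mul, one_mul]

/-- All involutions centralising an element of order five are conjugate. -/
theorem isConj_of_five (F : Facts G) {t t' z z' : G} (ht : orderOf t = 2) (ht' : orderOf t' = 2)
    (hz : orderOf z = 5) (hz' : orderOf z' = 5) (hc : Commute t z) (hc' : Commute t' z') :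
    IsConj t t' := by
  haveI : Fact (Nat.Prime 5) := ⟨by norm_num⟩
  have hf : (Nat.card G).factorization 5 = 1 := by
    rw [F.card, show (95040 : ℕ) = 5 ^ 1 * 19008 by norm_num,
      Nat.factorization_mul (by norm_num) (by norm_num), Finsupp.add_apply,
      Nat.Prime.factorization_pow (by norm_num), Finsupp.single_eq_same,
      Nat.factorization_eq_zero_of_not_dvd (show ¬ 5 ∣ 19008 by norm_num)]
  obtain ⟨g, hg⟩ := MulAction.exists_smul_eq G
    (Sylow.ofCard (zpowers z) (by rw [Nat.card_zpowers, hz, hf, pow_one]) : Sylow 5 G)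
    (Sylow.ofCard (zpowers z') (by rw [Nat.card_zpowers, hz', hf, pow_one]) : Sylow 5 G)
  have hmem : g * z * g⁻¹ ∈ zpowers z' := by
    have := congrArg (fun S : Sylow 5 G => (S : Subgroup G)) hg
    simp only [Sylow.coe_subgroup_smul] at this
    exact this.le ⟨z, mem_zpowers z, rfl⟩
  have ho : orderOf (g * z * g⁻¹) = 5 := by rw [H78.M22R.orderOf_conj', hz]
  have heq : zpowers (g * z * g⁻¹) = zpowers z' := eq_of_le_of_card_ge (zpowers_le.2 hmem)
    (by rw [Nat.card_zpowers, Nat.card_zpowers, ho, hz'])
  obtain ⟨k, hk⟩ : z' ∈ zpowers (g * z * g⁻¹) := heq.ge (mem_zpowers z')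
  have hc'' : Commute (g * t * g⁻¹) z' := by
    rw [← hk]
    exact ((H78.M22R.commute_conj_iff g t z).2 hc).zpow_right k
  exact isConj_iff.2 ⟨g, (inv_unique F ht' (by rw [H78.M22R.orderOf_conj', ht]) hz' hc' hc'')⟩

/-- The congruence on the number of involutions outside the class. -/
theorem rest_mod (F : Facts G) {t z : G} (ht : orderOf t = 2) (hz : orderOf z = 5)
    (hc : Commute t z) : Nat.card {g : G // IsConj t g} % 55 = 11 ∧
      Nat.card {g : G // IsConj t g} ≤ 891 := by
  classical
  haveI := Fintype.ofFinite G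
  set I : Finset G := Finset.univ.filter fun g => orderOf g = 2
  set A : Finset G := Finset.univ.filter fun g => IsConj t g
  have hI : I.card = 891 := by
    rw [← F.inv, cnt, Nat.card_eq_fintype_card, Fintype.card_subtype]
  have hA : A.card = Nat.card {g : G // IsConj t g} := by
    rw [Nat.card_eq_fintype_card, Fintype.card_subtype]
  have hord : ∀ a b : G, IsConj a b → orderOf b = orderOf a := fun a b h => by
    obtain ⟨c, rfl⟩ := isConj_iff.1 h
    exact H78.M22R.orderOf_conj' c a
  have hAI : A ⊆ I := fun g hg => by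
    simp only [A, I, Finset.mem_filter, Finset.mem_univ, true_and] at hg ⊢
    rw [hord t g hg, ht]
  let cl : G → Finset G := fun v => Finset.univ.filter fun g => IsConj v g
  have h55 : 55 ∣ (I \ A).card := by
    rw [Finset.card_eq_sum_card_image cl (I \ A)]
    refine Finset.dvd_sum fun D hD => ?_
    obtain ⟨v, hv, rfl⟩ := Finset.mem_image.1 hD
    simp only [Finset.mem_sdiff, I, A, Finset.mem_filter, Finset.mem_univ, true_and] at hv
    obtain ⟨hv2, hvA⟩ := hv
    have hfib : ((I \ A).filter fun x => cl x = cl v) = cl v := by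
      ext g
      simp only [Finset.mem_filter, Finset.mem_sdiff, I, A, cl, Finset.mem_univ, true_and]
      constructor
      · rintro ⟨-, h⟩
        have : g ∈ Finset.univ.filter fun x => IsConj g x := by simpa using IsConj.refl g
        rw [h] at this
        simpa using this
      · intro h
        refine ⟨⟨(hord v g h).trans hv2, fun h' => hvA (h'.trans h.symm)⟩, ?_⟩
        ext x
        simp only [Finset.mem_filter, Finset.mem_univ, true_and]
        exact ⟨h.trans, h.symm.trans⟩
    rw [hfib]
    have hcl : (cl v).card = Nat.card {g : G // IsConj v g} := by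
      rw [Nat.card_eq_fintype_card, Fintype.card_subtype]
    have hmul := H78.M22R.card_class_mul v
    rw [← hcl, F.card] at hmul
    have hndvd : ∀ p : ℕ, p.Prime → (∀ y : G, orderOf y = p → Commute y v → False) →
        ¬ p ∣ Nat.card (cz v) := by
      intro p hp hno hd
      haveI := Fact.mk hp
      obtain ⟨y, hy, ho⟩ := H78.M22R.exists_orderOf p hd
      exact hno y ho (H78.M22R.mem_cz.1 hy)
    have h5 := hndvd 5 (by norm_num) fun y hy hyv => hvA
      (isConj_of_five F ht hv2 hz hy hc hyv.symm)
    have h11 := hndvd 11 (by norm_num) fun y hy hyv => order_bad F (v * y) 22 (by decide) (by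
      rw [hyv.symm.orderOf_mul_eq_mul_orderOf_of_coprime (by rw [hv2, hy]; norm_num), hv2, hy])
    have hco : Nat.Coprime 55 (Nat.card (cz v)) := by
      rw [show (55 : ℕ) = 5 * 11 by norm_num, Nat.coprime_mul_iff_left]
      exact ⟨(Nat.Prime.coprime_iff_not_dvd (by norm_num)).2 h5,
        (Nat.Prime.coprime_iff_not_dvd (by norm_num)).2 h11⟩
    exact hco.dvd_of_dvd_mul_right (by rw [hmul]; norm_num)
  rw [Finset.card_sdiff_of_subset hAI] at h55
  have hle := Finset.card_le_card hAI
  rw [← hA]
  omega

/-- An involution of a simple group moves a multiple of four points of a class. -/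
theorem four_dvd_moved (F : Facts G) {t : G} (ht : orderOf t = 2) :
    4 ∣ Nat.card {s : G // IsConj t s ∧ ¬ Commute s t} := by
  classical
  haveI := Fintype.ofFinite G
  let α : Type _ := {s : G // IsConj t s}
  let act : MulAction G α :=
    { smul := fun g s => ⟨g * s.1 * g⁻¹, s.2.trans (isConj_iff.2 ⟨g, rfl⟩)⟩
      one_smul := fun s => Subtype.ext (show (1 : G) * s.1 * (1 : G)⁻¹ = s.1 by group)
      mul_smul := fun g h s => Subtype.ext
        (show (g * h) * s.1 * (g * h)⁻¹ = g * (h * s.1 * h⁻¹) * g⁻¹ by group) }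
  let φ : G →* Equiv.Perm α := MulAction.toPermHom G α
  have hsign : Equiv.Perm.sign (φ t) = 1 := by
    haveI := F.simple
    let ψ : G →* ℤˣ := (Equiv.Perm.sign).comp φ
    rcases ψ.normal_ker.eq_bot_or_eq_top with h | h
    · exfalso
      have := Nat.card_le_card_of_injective ψ ((MonoidHom.ker_eq_bot_iff ψ).1 h)
      rw [F.card, Nat.card_eq_fintype_card, Fintype.card_units_int] at this
      omega
    · exact MonoidHom.mem_ker.1 (h ▸ mem_top t : t ∈ ψ.ker)
  have hsupp : Nat.card {s : G // IsConj t s ∧ ¬ Commute s t} = (φ t).support.card := by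
    rw [← Fintype.card_coe, ← Nat.card_eq_fintype_card]
    refine Nat.card_congr
      { toFun := fun s => ⟨⟨s.1, s.2.1⟩, Equiv.Perm.mem_support.2 fun h => s.2.2 ?_⟩
        invFun := fun s => ⟨s.1.1, s.1.2, fun h => Equiv.Perm.mem_support.1 s.2 (Subtype.ext ?_)⟩
        left_inv := fun s => rfl
        right_inv := fun s => rfl }
    · have : t * s.1 * t⁻¹ = s.1 := congrArg Subtype.val h
      exact (mul_inv_eq_iff_eq_mul.1 this).symm
    · show t * s.1.1 * t⁻¹ = s.1.1
      rw [← h.eq, mul_inv_cancel_right]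
  rw [hsupp]
  by_cases h1 : φ t = 1
  · rw [h1, Equiv.Perm.support_one, Finset.card_empty]; exact dvd_zero _
  have ho : orderOf (φ t) = 2 := ((Nat.dvd_prime (by norm_num)).1
    (ht ▸ orderOf_map_dvd φ t)).resolve_left fun h => h1 (orderOf_eq_one_iff.1 h)
  obtain ⟨n, hn⟩ := Equiv.Perm.cycleType_prime_order (σ := φ t) (by rw [ho]; norm_num)
  rw [Equiv.Perm.sign_of_cycleType, hn, ho, Multiset.sum_replicate, Multiset.card_replicate] at hsign
  rw [← Equiv.Perm.sum_cycleType, hn, ho, Multiset.sum_replicate, smul_eq_mul]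
  have he : Even ((n + 1) • 2 + (n + 1)) := by
    by_contra ho'
    rw [(Nat.not_even_iff_odd.1 ho').neg_one_pow] at hsign
    exact absurd hsign (by decide)
  rw [smul_eq_mul, Nat.even_iff] at he
  omega

/-- Not all members of the class commute with the involution. -/
theorem moved_ne_zero (F : Facts G) {t z : G} (ht : orderOf t = 2) (hz : orderOf z = 5) :
    Nat.card {s : G // IsConj t s ∧ ¬ Commute s t} ≠ 0 := by
  intro h0
  haveI := F.simple
  have hcomm : ∀ s, IsConj t s → Commute s t := fun s hs => by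
    by_contra hn
    haveI : Nonempty {s : G // IsConj t s ∧ ¬ Commute s t} := ⟨⟨s, hs, hn⟩⟩
    exact absurd h0 Nat.card_pos.ne'
  have hpair : ∀ x ∈ {s | IsConj t s}, ∀ y ∈ {s | IsConj t s}, x * y = y * x := by
    intro x hx y hy
    obtain ⟨g, rfl⟩ := isConj_iff.1 (show IsConj t y from hy)
    have := hcomm (g⁻¹ * x * g) (IsConj.trans hx (isConj_iff.2 ⟨g⁻¹, by simp⟩))
    have h' := (H78.M22R.commute_conj_iff g (g⁻¹ * x * g) t).2 this
    rw [show g * (g⁻¹ * x * g) * g⁻¹ = x by group] at h'
    exact h'.eq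
  set N : Subgroup G := closure {s | IsConj t s}
  have hN : N.Normal := by
    refine ⟨fun n hn g => ?_⟩
    have hle : N.map (MulAut.conj g).toMonoidHom ≤ N := by
      rw [MonoidHom.map_closure]
      refine closure_mono ?_
      rintro _ ⟨s, hs, rfl⟩
      exact IsConj.trans hs (isConj_iff.2 ⟨g, rfl⟩)
    exact hle ⟨n, hn, rfl⟩
  have htN : t ∈ N := subset_closure (IsConj.refl t)
  rcases hN.eq_bot_or_eq_top with h | h
  · rw [h, mem_bot] at htN
    rw [htN, orderOf_one] at ht
    omega
  · have hab : ∀ a b : G, a * b = b * a := fun a b => by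
      have ha : a ∈ N := h ▸ mem_top a
      have hb : b ∈ N := h ▸ mem_top b
      have hle : N ≤ centralizer {s | IsConj t s} :=
        (closure_le _).2 fun x hx => mem_centralizer_iff.2 fun y hy => hpair y hy x hx
      have hle2 : N ≤ centralizer (N : Set G) := by
        refine (closure_le _).2 fun x hx => mem_centralizer_iff.2 fun y hy => ?_
        exact (mem_centralizer_iff.1 (hle hy) x hx).symm
      exact (mem_centralizer_iff.1 (hle2 hb) a ha)
    have : cz z = ⊤ := eq_top_iff.2 fun g _ => H78.M22R.mem_cz.2 (hab g z)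
    have h10 := F.cent5 z hz
    rw [this, card_top, F.card] at h10
    omega

/-- The image of the centraliser modulo the involution. -/
theorem no_class_sixtysix (F : Facts G) {t z : G} (ht : orderOf t = 2) (hz : orderOf z = 5)
    (hc : Commute t z) (hC : Nat.card (cz t) = 1440) : False := by
  classical
  haveI := Fintype.ofFinite G
  set C := cz t with hCdef
  have htt : t * t = 1 := by rw [← sq, ← ht, pow_orderOf_eq_one]
  have htC : t ∈ C := H78.M22R.mem_cz.2 (Commute.refl t)
  have hzC : z ∈ C := H78.M22R.mem_cz.2 hc.symm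
  set t' : C := ⟨t, htC⟩
  set z' : C := ⟨z, hzC⟩
  haveI hT0 : (zpowers t').Normal := by
    refine ⟨fun n hn g => ?_⟩
    have hcen : g * t' = t' * g := Subtype.ext (H78.M22R.mem_cz.1 g.2).eq
    obtain ⟨k, rfl⟩ := hn
    have := (show Commute g t' from hcen).zpow_right k
    rw [this.eq, mul_inv_cancel_right]
    exact ⟨k, rfl⟩
  have ht'2 : orderOf t' = 2 := by rw [← Subgroup.orderOf_coe]; exact ht
  have hker : ∀ g : C, g ∈ zpowers t' → g = 1 ∨ g = t' := fun g hg => by
    rw [mem_zpowers_iff_mem_range_orderOf, ht'2] at hg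
    simp only [Finset.mem_image, Finset.mem_range] at hg
    obtain ⟨k, hk, rfl⟩ := hg
    interval_cases k <;> simp
  let Q := C ⧸ zpowers t'
  let π : C →* Q := QuotientGroup.mk' (zpowers t')
  have hπ : Function.Surjective π := QuotientGroup.mk'_surjective _
  have hπ1 : ∀ g : C, π g = 1 ↔ g ∈ zpowers t' := fun g => QuotientGroup.eq_one_iff g
  have hcardQ : Nat.card Q = 720 := by
    have := (zpowers t').card_mul_index
    rw [Nat.card_zpowers, ht'2, hC, index_eq_card] at this
    show Nat.card (C ⧸ zpowers t') = 720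
    omega
  have hz5 : orderOf (π z') = 5 := by
    refine ((Nat.dvd_prime (by norm_num)).1 ?_).resolve_left fun h => ?_
    · rw [← hz, show z = (z' : G) from rfl, Subgroup.orderOf_coe]
      exact orderOf_map_dvd π z'
    · rcases hker z' ((hπ1 z').1 (orderOf_eq_one_iff.1 h)) with h | h
      · have : z = 1 := congrArg Subtype.val h
        rw [this, orderOf_one] at hz; omega
      · have : z = t := congrArg Subtype.val h
        rw [this] at hz; omega
  set P : Subgroup Q := zpowers (π z')
  obtain ⟨hzp, hzo⟩ := cz_five_eq F ht hz hc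
  have hcentP : ∀ g : C, Commute (g : G) z → π g ∈ P := by
    intro g hg
    obtain ⟨k, hk⟩ : (g : G) ∈ zpowers (t * z) := hzp ▸ H78.M22R.mem_cz.2 hg
    have : g = (t' * z') ^ k := Subtype.ext (by rw [← hk]; simp [t', z'])
    rw [this, map_zpow, map_mul, (hπ1 t').2 (mem_zpowers t'), one_mul]
    exact ⟨k, rfl⟩
  have hcent : ∀ q : Q, (∀ p ∈ P, q * p = p * q) → q ∈ P := by
    intro q hq
    obtain ⟨g, rfl⟩ := hπ q
    have h1 : π (g * z' * g⁻¹ * z'⁻¹) = 1 := by
      rw [map_mul, map_mul, map_mul, map_inv, map_inv, hq _ (mem_zpowers _)]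
      group
    refine hcentP g ?_
    rcases hker _ ((hπ1 _).1 h1) with h | h
    · have h' : (g : G) * z * (g : G)⁻¹ * z⁻¹ = 1 := congrArg Subtype.val h
      exact mul_inv_eq_iff_eq_mul.1 (mul_inv_eq_one.1 h')
    · exfalso
      have h' : (g : G) * z * (g : G)⁻¹ = t * z := by
        have : (g : G) * z * (g : G)⁻¹ * z⁻¹ = t := congrArg Subtype.val h
        rw [← this]; group
      have := H78.M22R.orderOf_conj' (g : G) z
      rw [h', hzo, hz] at this
      omega
  have hfour : ∃ b : Q, orderOf b = 4 := by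
    -- an element of the normaliser inducing the squaring map
    set N := normalizer (zpowers z : Set G) with hN
    have hN40 : Nat.card N = 40 := F.norm5 _ (by rw [Nat.card_zpowers, hz])
    let β := {x : G // x ∈ zpowers z ∧ x ≠ 1}
    have hβ : Nat.card β = 4 := by
      have e : β ≃ {x : zpowers z // x ≠ 1} :=
        { toFun := fun x => ⟨⟨x.1, x.2.1⟩, fun h => x.2.2 (congrArg Subtype.val h)⟩
          invFun := fun x => ⟨x.1.1, x.1.2, fun h => x.2 (Subtype.ext h)⟩
          left_inv := fun x => rfl
          right_inv := fun x => rfl }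
      haveI := Fintype.ofFinite (zpowers z)
      rw [Nat.card_congr e, Nat.card_eq_fintype_card, Fintype.card_subtype_compl,
        Fintype.card_subtype_eq, ← Nat.card_eq_fintype_card, Nat.card_zpowers, hz]
    set K : Subgroup N := (cz z).subgroupOf N
    have hCN : cz z ≤ N := by
      intro g hg
      have hg' := H78.M22R.mem_cz.1 hg
      refine mem_normalizer_iff.2 fun x => ?_
      constructor
      · rintro ⟨k, rfl⟩
        exact ⟨k, by rw [(hg'.zpow_right k).eq, mul_inv_cancel_right]⟩
      · rintro ⟨k, hk⟩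
        refine ⟨k, ?_⟩
        have hx : x = g⁻¹ * z ^ k * g := by rw [show z ^ k = g * x * g⁻¹ from hk]; group
        show z ^ k = x
        rw [hx, mul_assoc, ← (hg'.zpow_right k).eq, inv_mul_cancel_left]
    have hK : Nat.card (N ⧸ K) = 4 := by
      have := K.card_mul_index
      rw [Nat.card_congr (subgroupOfEquivOfLe hCN).toEquiv, F.cent5 z hz, hN40] at this
      rw [← index_eq_card]; omega
    have hmemN : ∀ g : N, (g : G) * z * (g : G)⁻¹ ∈ zpowers z := fun g =>
      (mem_normalizer_iff.1 g.2 z).1 (mem_zpowers z)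
    let f : N ⧸ K → β := Quotient.lift
      (fun g : N => (⟨(g : G) * z * (g : G)⁻¹, hmemN g, fun h => by
        have := H78.M22R.orderOf_conj' (g : G) z
        rw [h, orderOf_one, hz] at this; omega⟩ : β))
      (fun a b hab => by
        have hab' : a⁻¹ * b ∈ K := QuotientGroup.leftRel_apply.1 hab
        have hcm : Commute ((a : G)⁻¹ * b) z := H78.M22R.mem_cz.1 hab'
        refine Subtype.ext ?_
        show (a : G) * z * (a : G)⁻¹ = (b : G) * z * (b : G)⁻¹
        calc (a : G) * z * (a : G)⁻¹ = a * (z * ((a : G)⁻¹ * b)) * (b : G)⁻¹ := by group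
          _ = a * (((a : G)⁻¹ * b) * z) * (b : G)⁻¹ := by rw [hcm.eq]
          _ = _ := by group)
    have hinj : Function.Injective f := by
      intro x y
      induction x using QuotientGroup.induction_on with
      | H a =>
        induction y using QuotientGroup.induction_on with
        | H b =>
          intro h
          have h' : (a : G) * z * (a : G)⁻¹ = (b : G) * z * (b : G)⁻¹ := congrArg Subtype.val h
          refine QuotientGroup.eq.2 ?_
          refine H78.M22R.mem_cz.2 ?_
          show ((a : G)⁻¹ * b) * z = z * ((a : G)⁻¹ * b)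
          calc (a : G)⁻¹ * b * z = (a : G)⁻¹ * ((b : G) * z * (b : G)⁻¹) * b := by group
            _ = (a : G)⁻¹ * ((a : G) * z * (a : G)⁻¹) * b := by rw [h']
            _ = _ := by group
    have hz2 : z ^ 2 ≠ 1 := pow_ne_one_of_lt_orderOf (by norm_num) (by omega)
    obtain ⟨x, hx⟩ := ((Nat.bijective_iff_injective_and_card f).2 ⟨hinj, by rw [hK, hβ]⟩).2
      ⟨z ^ 2, pow_mem (mem_zpowers z) 2, hz2⟩
    induction x using QuotientGroup.induction_on with
    | H g =>
      have hg : (g : G) * z * (g : G)⁻¹ = z ^ 2 := congrArg Subtype.val hx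
      have hgC : (g : G) ∈ C := by
        refine H78.M22R.mem_cz.2 ?_
        have h1 : Commute ((g : G) * t * (g : G)⁻¹) z := by
          have hh := (H78.M22R.commute_conj_iff (g : G) t z).2 hc
          rw [hg] at hh
          have h3 := hh.pow_right 3
          rwa [← pow_mul, show z ^ (2 * 3) = z by
            rw [pow_succ, show z ^ 5 = 1 by rw [← hz, pow_orderOf_eq_one], one_mul]] at h3
        exact mul_inv_eq_iff_eq_mul.1
          (inv_unique F ht (by rw [H78.M22R.orderOf_conj', ht]) hz hc h1)
      set γ : Q := π ⟨g, hgC⟩ with hγ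
      have hγz : ∀ n : ℕ, γ ^ n * π z' * (γ ^ n)⁻¹ = π z' ^ (2 ^ n) := by
        intro n
        induction n with
        | zero => simp
        | succ n ih =>
          have h1 : γ * π z' * γ⁻¹ = π z' ^ 2 := by
            rw [hγ, ← map_inv, ← map_mul, ← map_mul, ← map_pow]
            exact congrArg π (Subtype.ext hg)
          rw [pow_succ', mul_inv_rev, show γ * γ ^ n * π z' * ((γ ^ n)⁻¹ * γ⁻¹) =
            γ * (γ ^ n * π z' * (γ ^ n)⁻¹) * γ⁻¹ by group, ih, ← conj_pow, h1, ← pow_mul,
            pow_succ' 2 n]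
      have h4 : γ ^ 4 ∈ P := hcent _ fun p hp => by
        obtain ⟨k, rfl⟩ := hp
        have h := hγz 4
        rw [← pow_mod_orderOf (π z') (2 ^ 4), hz5, show 2 ^ 4 % 5 = 1 by norm_num, pow_one] at h
        exact ((show Commute (γ ^ 4) (π z') from mul_inv_eq_iff_eq_mul.1 h).zpow_right k).eq
      have h20 : γ ^ 20 = 1 := by
        rw [show 20 = 4 * 5 by norm_num, pow_mul]
        have hd := orderOf_dvd_natCard P h4
        rw [Nat.card_zpowers, hz5] at hd
        exact orderOf_dvd_iff_pow_eq_one.1 hd
      refine ⟨γ ^ 5, ?_⟩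
      haveI : Fact (Nat.Prime 2) := ⟨by norm_num⟩
      have hb2 : ¬ (γ ^ 5) ^ 2 = 1 := by
        intro h
        rw [← pow_mul] at h
        have h' := hγz 10
        rw [h, one_mul, inv_one, mul_one, ← pow_mod_orderOf, hz5,
          show 2 ^ 10 % 5 = 4 by norm_num] at h'
        have : π z' ^ 3 = 1 := by
          have := h'.symm
          rwa [pow_succ, mul_eq_right] at this
        have hd := orderOf_dvd_of_pow_eq_one this
        rw [hz5] at hd
        norm_num at hd
      exact orderOf_eq_prime_pow (p := 2) (n := 1) (by simpa using hb2)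
        (by rw [← pow_mul]; exact h20)
  have hQ : QFacts Q P := ⟨hcardQ, by rw [Nat.card_zpowers, hz5], hcent, hfour⟩
  -- orbits of the centraliser on the class
  let orb : G → Finset G := fun s => Finset.univ.filter fun x => ∃ g ∈ C, g * s * g⁻¹ = x
  let stab : G → Subgroup C := fun s => (cz s).subgroupOf C
  have hmemstab : ∀ (s : G) (g : C), g ∈ stab s ↔ Commute (g : G) s := fun s g =>
    mem_subgroupOf.trans H78.M22R.mem_cz
  have horbcard : ∀ s, (orb s).card * Nat.card (stab s) = 1440 := by
    intro s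
    rw [← hC, ← (stab s).card_mul_index, mul_comm, mul_right_inj' Nat.card_pos.ne', index_eq_card,
      ← Fintype.card_coe, ← Nat.card_eq_fintype_card]
    refine (Nat.card_congr (Equiv.ofBijective (Quotient.lift
      (fun g : C => (⟨(g : G) * s * (g : G)⁻¹, by simp [orb]; exact ⟨g, g.2, rfl⟩⟩ : orb s))
      ?_) ⟨?_, ?_⟩)).symm
    · intro a b hab
      have hab' : a⁻¹ * b ∈ stab s := QuotientGroup.leftRel_apply.1 hab
      have hcm : Commute ((a : G)⁻¹ * b) s := (hmemstab s _).1 hab'
      refine Subtype.ext ?_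
      show (a : G) * s * (a : G)⁻¹ = (b : G) * s * (b : G)⁻¹
      calc (a : G) * s * (a : G)⁻¹ = a * (s * ((a : G)⁻¹ * b)) * (b : G)⁻¹ := by group
        _ = a * (((a : G)⁻¹ * b) * s) * (b : G)⁻¹ := by rw [hcm.eq]
        _ = _ := by group
    · intro x y
      induction x using QuotientGroup.induction_on with
      | H a =>
        induction y using QuotientGroup.induction_on with
        | H b =>
          intro h
          have h' : (a : G) * s * (a : G)⁻¹ = (b : G) * s * (b : G)⁻¹ := congrArg Subtype.val h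
          refine QuotientGroup.eq.2 ((hmemstab s _).2 ?_)
          show ((a : G)⁻¹ * b) * s = s * ((a : G)⁻¹ * b)
          calc (a : G)⁻¹ * b * s = (a : G)⁻¹ * ((b : G) * s * (b : G)⁻¹) * b := by group
            _ = (a : G)⁻¹ * ((a : G) * s * (a : G)⁻¹) * b := by rw [h']
            _ = _ := by group
    · rintro ⟨x, hx⟩
      obtain ⟨g, hg, rfl⟩ : ∃ g ∈ C, g * s * g⁻¹ = x := by simpa [orb] using hx
      exact ⟨QuotientGroup.mk ⟨g, hg⟩, rfl⟩
  have hs2 : ∀ s, IsConj t s → orderOf s = 2 := fun s hs => by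
    obtain ⟨g, rfl⟩ := isConj_iff.1 hs
    rw [H78.M22R.orderOf_conj', ht]
  have h5orb : ∀ s, IsConj t s → s ≠ t → 5 ∣ (orb s).card := by
    intro s hs hne
    haveI : Fact (Nat.Prime 5) := ⟨by norm_num⟩
    have h5 : ¬ 5 ∣ Nat.card (stab s) := by
      intro hd
      obtain ⟨y, hy⟩ := exists_prime_orderOf_dvd_card' (G := stab s) 5 hd
      have hyo : orderOf ((y : C) : G) = 5 := by rw [Subgroup.orderOf_coe, Subgroup.orderOf_coe, hy]
      exact hne (inv_unique F ht (hs2 s hs) hyo
        (H78.M22R.mem_cz.1 (y : C).2).symm ((hmemstab s _).1 y.2).symm)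
    exact ((Nat.Prime.coprime_iff_not_dvd (by norm_num)).2 h5).dvd_of_dvd_mul_right
      ((horbcard s).symm ▸ by norm_num)
  -- commuting members
  have hcommOrb : ∀ s, IsConj t s → s ≠ t → Commute s t →
      (orb s).card ∣ 720 ∧ (orb s).card ≠ 5 ∧ (orb s).card ≠ 10 := by
    intro s hs hne hst
    set H := stab s with hH
    have hsC : s ∈ C := H78.M22R.mem_cz.2 hst
    have hle : zpowers t' ≤ H := zpowers_le.2 ((hmemstab s t').2 hst.symm)
    have hidx : (H.map π).index = H.index := by
      rw [← index_comap_of_surjective (H.map π) hπ, comap_map_eq, QuotientGroup.ker_mk',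
        sup_eq_left.2 hle]
    have hcard : Nat.card (H.map π) * (orb s).card = 720 := by
      have hi : H.index = (orb s).card := by
        have h1 := H.card_mul_index
        rw [hC, ← horbcard s, mul_comm (orb s).card] at h1
        exact Nat.eq_of_mul_eq_mul_left Nat.card_pos h1
      rw [← hi, ← hidx, card_mul_index, hcardQ]
    refine ⟨⟨_, by rw [mul_comm]; exact hcard.symm⟩, fun h5 => ?_, fun h10 => ?_⟩
    · rw [h5] at hcard
      exact not_index_five hQ (M := H.map π) (by omega)
    · rw [h10] at hcard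
      have hs1 : π ⟨s, hsC⟩ ≠ 1 := fun h => by
        rcases hker _ ((hπ1 _).1 h) with h' | h'
        · have : s = 1 := congrArg Subtype.val h'
          have := hs2 s hs
          rw [‹s = 1›, orderOf_one] at this; omega
        · exact hne (congrArg Subtype.val h')
      refine not_central hQ (H := H.map π) (by omega)
        ⟨⟨s, hsC⟩, (hmemstab s _).2 (Commute.refl s), rfl⟩ hs1 ?_ ?_
      · rw [← map_mul, show (⟨s, hsC⟩ : C) * ⟨s, hsC⟩ = 1 from Subtype.ext (by
          show s * s = 1
          rw [← sq, ← hs2 s hs, pow_orderOf_eq_one]), map_one]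
      · rintro _ ⟨g, hg, rfl⟩
        rw [← map_mul, ← map_mul]
        exact congrArg π (Subtype.ext ((hmemstab s g).1 hg).eq.symm)
  -- non-commuting members
  have hncOrb : ∀ s, IsConj t s → ¬ Commute s t → (orb s).card ≤ 20 → False := by
    intro s hs hst hle20
    set H := stab s with hH
    have hinjH : ∀ g ∈ H, π g = 1 → g = 1 := fun g hg h => by
      rcases hker g ((hπ1 g).1 h) with h' | h'
      · exact h'
      · exact absurd ((hmemstab s g).1 hg) (by rw [h']; exact fun h'' => hst h''.symm)
    have hcardmap : Nat.card (H.map π) = Nat.card H := by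
      refine (Nat.card_congr (Equiv.ofBijective (fun g : H => (⟨π g, ⟨g, g.2, rfl⟩⟩ : H.map π))
        ⟨fun a b h => ?_, ?_⟩)).symm
      · have h' : π (a : C) = π (b : C) := congrArg Subtype.val h
        have := hinjH _ (H.mul_mem (H.inv_mem a.2) b.2) (by rw [map_mul, map_inv, h', inv_mul_cancel])
        exact Subtype.ext (inv_mul_eq_one.1 this)
      · rintro ⟨_, g, hg, rfl⟩
        exact ⟨⟨g, hg⟩, rfl⟩
    have hne : s ≠ t := fun h => hst (h ▸ Commute.refl t)
    have h5 := h5orb s hs hne
    have hd : Nat.card H ∣ 720 := hcardmap ▸ hcardQ ▸ card_subgroup_dvd_card _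
    have hmul : (orb s).card * Nat.card H = 1440 := horbcard s
    have hpos : 0 < (orb s).card := by
      rcases Nat.eq_zero_or_pos (orb s).card with h | h
      · rw [h, zero_mul] at hmul; omega
      · exact h
    obtain ⟨j, hj⟩ := h5
    rw [hj] at hmul hle20 hpos
    have hj4 : j ≤ 4 := by omega
    interval_cases j
    · omega
    · rw [show Nat.card H = 288 by omega] at hd; norm_num at hd
    · exact not_index_five hQ (M := H.map π) (by rw [hcardmap]; omega)
    · rw [show Nat.card H = 96 by omega] at hd; norm_num at hd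
    · -- order 72
      refine not_elementary hQ (H := H.map π) (by rw [hcardmap]; omega) ?_
      haveI : Fact (Nat.Prime 3) := ⟨by norm_num⟩
      obtain ⟨y, hy⟩ := exists_prime_orderOf_dvd_card' (G := H) 3 (by omega)
      have hyo : orderOf ((y : C) : G) = 3 := by rw [Subgroup.orderOf_coe, Subgroup.orderOf_coe, hy]
      have hst' : ∀ g ∈ H, Commute (g : G) (t * s) := fun g hg =>
        (H78.M22R.mem_cz.1 g.2).mul_right ((hmemstab s g).1 hg)
      set n := orderOf (t * s) with hn
      have hn12 : n ≠ 1 ∧ n ≠ 2 := by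
        have hss : s * s = 1 := by rw [← sq, ← hs2 s hs, pow_orderOf_eq_one]
        constructor
        · intro h1
          exact hne (by
            have := orderOf_eq_one_iff.1 h1
            rw [← inv_eq_of_mul_eq_one_right this, inv_eq_of_mul_eq_one_right htt])
        · intro h2
          refine hst ?_
          have h' : t * s * (t * s) = 1 := by rw [← sq, ← h2, hn, pow_orderOf_eq_one]
          calc s * t = (t * t) * (s * t) * (s * s) := by rw [htt, hss, one_mul, mul_one]
            _ = t * (t * s * (t * s)) * s := by group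
            _ = t * s := by rw [h', mul_one]
      have h3n : 3 ∣ n := by
        by_contra h
        have := (hst' _ y.2).orderOf_mul_eq_mul_orderOf_of_coprime
          (by rw [hyo]; exact (Nat.Prime.coprime_iff_not_dvd (by norm_num)).2 h)
        rw [hyo, ← hn] at this
        have hm := F.orders (((y : C) : G) * (t * s))
        rw [this] at hm
        simp only [Finset.mem_insert, Finset.mem_singleton] at hm
        obtain ⟨h1, h2⟩ := hn12
        omega
      rintro _ ⟨h, hh, rfl⟩ h8
      have hh8 : h ^ 8 = 1 := hinjH _ (H.pow_mem hh 8) (by rw [map_pow, h8])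
      rw [← map_mul]
      suffices h * h = 1 by rw [this, map_one]
      have ho8 : orderOf ((h : C) : G) ∣ 2 ^ 3 := by
        rw [Subgroup.orderOf_coe]; exact orderOf_dvd_of_pow_eq_one hh8
      obtain ⟨i, hi, hoi⟩ := (Nat.dvd_prime_pow (by norm_num)).1 ho8
      by_cases hi1 : i ≤ 1
      · refine Subtype.ext ?_
        show (h : G) * h = 1
        rw [← sq]
        refine orderOf_dvd_iff_pow_eq_one.1 ?_
        rw [hoi]
        exact (pow_dvd_pow 2 hi1).trans (by norm_num)
      exfalso
      obtain ⟨m, hm⟩ := h3n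
      have hm0 : m ≠ 0 := fun h0 => by
        rw [h0, mul_zero] at hm
        exact (orderOf_pos (t * s)).ne' (hn.symm.trans hm)
      have hx : orderOf ((t * s) ^ m) = 3 := by
        rw [orderOf_pow' _ hm0, ← hn, hm, Nat.gcd_eq_right (dvd_mul_left m 3),
          Nat.mul_div_cancel _ (Nat.pos_of_ne_zero hm0)]
      have h12 := ((hst' _ hh).pow_right m).orderOf_mul_eq_mul_orderOf_of_coprime (by
        rw [hx, hoi]; exact Nat.Coprime.pow_left _ (by norm_num))
      rw [hx, hoi] at h12
      have hm' := F.orders ((h : G) * (t * s) ^ m)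
      rw [h12] at hm'
      interval_cases i <;> simp at hm' hi1
  -- the count
  set A : Finset G := Finset.univ.filter fun g => IsConj t g
  have hA : A.card = 66 := by
    have := H78.M22R.card_class_mul t
    rw [F.card, hC, Nat.card_eq_fintype_card, Fintype.card_subtype] at this
    show (Finset.univ.filter fun g => IsConj t g).card = 66
    omega
  set Nc := A.filter fun s => ¬ Commute s t
  set Fs := (A.erase t).filter fun s => Commute s t
  have hn : Nc.card = Nat.card {s : G // IsConj t s ∧ ¬ Commute s t} := by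
    rw [Nat.card_eq_fintype_card, Fintype.card_subtype]
    simp only [Nc, A, Finset.filter_filter]
  have hsum : Nc.card + Fs.card = 65 := by
    have e : Nc = (A.erase t).filter fun s => ¬ Commute s t := by
      ext s
      simp only [Nc, Finset.mem_filter, Finset.mem_erase]
      refine ⟨fun h => ⟨⟨fun e => h.2 (e ▸ Commute.refl t), h.1⟩, h.2⟩, fun h => ⟨h.1.2, h.2⟩⟩
    rw [e, add_comm, Finset.card_filter_add_card_filter_not, Finset.card_erase_of_mem
      (by simpa [A] using IsConj.refl t), hA]
  have horbA : ∀ s g, g ∈ C → IsConj t s → IsConj t (g * s * g⁻¹) := fun s g _ hs =>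
    hs.trans (isConj_iff.2 ⟨g, rfl⟩)
  have horbcomm : ∀ s g, g ∈ C → (Commute (g * s * g⁻¹) t ↔ Commute s t) := fun s g hg => by
    have ht' : g * t * g⁻¹ = t := by rw [(H78.M22R.mem_cz.1 hg).eq, mul_inv_cancel_right]
    conv_lhs => rw [← ht', H78.M22R.commute_conj_iff]
  -- a set stable under the centraliser splits into orbits
  have hsplit : ∀ S : Finset G, (∀ s ∈ S, ∀ g ∈ C, g * s * g⁻¹ ∈ S) → ∀ s ∈ S,
      orb s ⊆ S ∧ (∀ x ∈ S \ orb s, ∀ g ∈ C, g * x * g⁻¹ ∈ S \ orb s) := by
    intro S hS s hs
    refine ⟨fun x hx => ?_, fun x hx g hg => ?_⟩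
    · obtain ⟨g, hg, rfl⟩ : ∃ g ∈ C, g * s * g⁻¹ = x := by simpa [orb] using hx
      exact hS s hs g hg
    · rw [Finset.mem_sdiff] at hx ⊢
      refine ⟨hS x hx.1 g hg, fun h => hx.2 ?_⟩
      obtain ⟨k, hk, hk'⟩ : ∃ k ∈ C, k * s * k⁻¹ = g * x * g⁻¹ := by simpa [orb] using h
      simp only [orb, Finset.mem_filter, Finset.mem_univ, true_and]
      refine ⟨g⁻¹ * k, C.mul_mem (C.inv_mem hg) hk, ?_⟩
      rw [show g⁻¹ * k * s * (g⁻¹ * k)⁻¹ = g⁻¹ * (k * s * k⁻¹) * g by group, hk']; group
  have hdvd5 : ∀ S : Finset G, (∀ s ∈ S, IsConj t s ∧ s ≠ t) →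
      (∀ s ∈ S, ∀ g ∈ C, g * s * g⁻¹ ∈ S) → 5 ∣ S.card := by
    intro S
    induction S using Finset.strongInduction with
    | _ S ih =>
      intro hprop hS
      rcases S.eq_empty_or_nonempty with rfl | ⟨s, hs⟩
      · simp
      obtain ⟨hsub, hrest⟩ := hsplit S hS s hs
      have hself : s ∈ orb s := by
        simp only [orb, Finset.mem_filter, Finset.mem_univ, true_and]
        exact ⟨1, C.one_mem, by group⟩
      have := ih (S \ orb s) (Finset.ssubset_iff_of_subset Finset.sdiff_subset |>.2
        ⟨s, hs, fun h => (Finset.mem_sdiff.1 h).2 hself⟩)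
        (fun x hx => hprop x (Finset.mem_sdiff.1 hx).1) hrest
      rw [Finset.card_sdiff_of_subset hsub] at this
      have h5 := h5orb s (hprop s hs).1 (hprop s hs).2
      have := Finset.card_le_card hsub
      omega
  have hNcS : ∀ s ∈ Nc, ∀ g ∈ C, g * s * g⁻¹ ∈ Nc := by
    intro s hs g hg
    simp only [Nc, A, Finset.mem_filter, Finset.mem_univ, true_and] at hs ⊢
    exact ⟨horbA s g hg hs.1, fun h => hs.2 ((horbcomm s g hg).1 h)⟩
  have hFsS : ∀ s ∈ Fs, ∀ g ∈ C, g * s * g⁻¹ ∈ Fs := by
    intro s hs g hg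
    simp only [Fs, A, Finset.mem_filter, Finset.mem_erase, Finset.mem_univ, true_and] at hs ⊢
    refine ⟨⟨fun h => hs.1.1 ?_, horbA s g hg hs.1.2⟩, (horbcomm s g hg).2 hs.2⟩
    calc s = g⁻¹ * (g * s * g⁻¹) * g := by group
      _ = g⁻¹ * (t * g) := by rw [h, mul_assoc]
      _ = t := by rw [← (H78.M22R.mem_cz.1 hg).eq, inv_mul_cancel_left]
  have hNc5 : 5 ∣ Nc.card := hdvd5 Nc (fun s hs => by
    simp only [Nc, A, Finset.mem_filter, Finset.mem_univ, true_and] at hs
    exact ⟨hs.1, fun e => hs.2 (e ▸ Commute.refl t)⟩) hNcS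
  have h4 := four_dvd_moved F ht
  have h0 := moved_ne_zero F ht hz
  rw [← hn] at h4 h0
  have hFprop : ∀ s ∈ Fs, IsConj t s ∧ s ≠ t ∧ Commute s t := fun s hs => by
    simp only [Fs, A, Finset.mem_filter, Finset.mem_erase, Finset.mem_univ, true_and] at hs
    exact ⟨hs.1.2, hs.1.1, hs.2⟩
  have hsmall : ∀ S : Finset G, S ⊆ Fs → (∀ s ∈ S, ∀ g ∈ C, g * s * g⁻¹ ∈ S) →
      0 < S.card → S.card ≤ 10 → False := by
    intro S hSF hS hpos hle
    obtain ⟨s, hs⟩ := Finset.card_pos.1 hpos
    obtain ⟨h1, h2, h3⟩ := hFprop s (hSF hs)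
    obtain ⟨-, h5, h10⟩ := hcommOrb s h1 h2 h3
    obtain ⟨j, hj⟩ := h5orb s h1 h2
    have := Finset.card_le_card (hsplit S hS s hs).1
    have hpos' : 0 < (orb s).card := by
      refine Finset.card_pos.2 ⟨s, ?_⟩
      simp only [orb, Finset.mem_filter, Finset.mem_univ, true_and]
      exact ⟨1, C.one_mem, by group⟩
    omega
  rcases (show Nc.card = 20 ∨ Fs.card = 25 ∨ Fs.card = 5 by omega) with h | h | h
  · obtain ⟨s, hs⟩ := Finset.card_pos.1 (show 0 < Nc.card by omega)
    have := Finset.card_le_card (hsplit Nc hNcS s hs).1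
    simp only [Nc, A, Finset.mem_filter, Finset.mem_univ, true_and] at hs
    exact hncOrb s hs.1 hs.2 (by omega)
  · obtain ⟨s, hs⟩ := Finset.card_pos.1 (show 0 < Fs.card by omega)
    obtain ⟨hsub, hrest⟩ := hsplit Fs hFsS s hs
    obtain ⟨h1, h2, h3⟩ := hFprop s hs
    obtain ⟨hd, h5, h10⟩ := hcommOrb s h1 h2 h3
    obtain ⟨j, hj⟩ := h5orb s h1 h2
    have hle := Finset.card_le_card hsub
    have hj5 : j ≤ 5 := by omega
    have hj25 : j ≠ 5 := fun e => by rw [hj, e] at hd; norm_num at hd
    have hj0 : j ≠ 0 := fun e => by rw [hj, e] at hd; norm_num at hd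
    refine hsmall (Fs \ orb s) Finset.sdiff_subset hrest ?_ ?_ <;>
      rw [Finset.card_sdiff_of_subset hsub] <;> omega
  · exact hsmall Fs subset_rfl hFsS (by omega) (by omega)

/-- The centraliser of an involution centralising an element of order five has order 240. -/
theorem centA_of_facts (F : Facts G) : CentA G := by
  intro t z ht hz hc
  obtain ⟨hmod, hle⟩ := rest_mod F ht hz hc
  set a := Nat.card {g : G // IsConj t g} with ha
  set c := Nat.card (cz t) with hcc
  have hmul : a * c = 95040 := (H78.M22R.card_class_mul t).trans F.card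
  have h40 : 40 ∣ c := by
    rw [← F.norm5 (zpowers z) (by rw [Nat.card_zpowers, hz])]
    refine card_dvd_of_le fun g hg => ?_
    have hm := (mem_normalizer_iff.1 hg z).1 (mem_zpowers z)
    have ho : orderOf (g * z * g⁻¹) = 5 := by rw [H78.M22R.orderOf_conj', hz]
    have heq : zpowers (g * z * g⁻¹) = zpowers z := eq_of_le_of_card_ge (zpowers_le.2 hm)
      (by rw [Nat.card_zpowers, Nat.card_zpowers, ho, hz])
    obtain ⟨k, hk⟩ := heq.ge (mem_zpowers z)
    have h1 : Commute (g * t * g⁻¹) z := by
      rw [← hk]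
      exact ((H78.M22R.commute_conj_iff g t z).2 hc).zpow_right k
    exact H78.M22R.mem_cz.2 (mul_inv_eq_iff_eq_mul.1
      (inv_unique F ht (by rw [H78.M22R.orderOf_conj', ht]) hz hc h1))
  obtain ⟨m, hm⟩ := h40
  have ham : a * m = 2376 := by
    have : a * (40 * m) = 95040 := hm ▸ hmul
    rw [← mul_assoc, mul_comm a 40, mul_assoc] at this
    omega
  have key : ∀ x ∈ (2376 : ℕ).divisors, x % 55 = 11 → x ≤ 891 → x = 11 ∨ x = 66 ∨ x = 396 := by
    decide +kernel
  rcases key a (Nat.mem_divisors.2 ⟨⟨m, ham.symm⟩, by norm_num⟩) hmod hle with h | h | h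
  · exfalso
    have h4 := four_dvd_moved F ht
    have h0 := moved_ne_zero F ht hz
    have hle10 : Nat.card {s : G // IsConj t s ∧ ¬ Commute s t} ≤ 10 := by
      classical
      haveI := Fintype.ofFinite G
      rw [Nat.card_eq_fintype_card, Fintype.card_subtype]
      have hA : (Finset.univ.filter fun g => IsConj t g).card = 11 := by
        rw [← h, ha, Nat.card_eq_fintype_card, Fintype.card_subtype]
      have hlt : (Finset.univ.filter fun s => IsConj t s ∧ ¬ Commute s t).card <
          (Finset.univ.filter fun g => IsConj t g).card := by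
        refine Finset.card_lt_card ((Finset.ssubset_iff_of_subset fun x hx => ?_).2 ⟨t, ?_, ?_⟩)
        · simp only [Finset.mem_filter, Finset.mem_univ, true_and] at hx ⊢
          exact hx.1
        · simpa using IsConj.refl t
        · simp
      omega
    have h5 : 5 ∣ Nat.card {s : G // IsConj t s ∧ ¬ Commute s t} := by
      haveI : Fact (Nat.Prime 5) := ⟨by norm_num⟩
      let α : Type _ := {s : G // IsConj t s ∧ ¬ Commute s t}
      have hconj : ∀ (y : zpowers z) (s : G), IsConj t s ∧ ¬ Commute s t →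
          IsConj t ((y : G) * s * (y : G)⁻¹) ∧ ¬ Commute ((y : G) * s * (y : G)⁻¹) t := by
        rintro ⟨y, k, rfl⟩ s ⟨h1, h2⟩
        refine ⟨h1.trans (isConj_iff.2 ⟨_, rfl⟩), fun h3 => h2 ?_⟩
        have ht' : z ^ k * t * (z ^ k)⁻¹ = t := by rw [← (hc.zpow_right k).eq, mul_inv_cancel_right]
        refine (H78.M22R.commute_conj_iff (z ^ k) s t).1 ?_
        rw [ht']
        exact h3
      let act : MulAction (zpowers z) α :=
        { smul := fun y s => ⟨_, hconj y s.1 s.2⟩
          one_smul := fun s => Subtype.ext (show (1 : G) * s.1 * (1 : G)⁻¹ = s.1 by group)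
          mul_smul := fun y y' s => Subtype.ext
            (show ((y : G) * y') * s.1 * ((y : G) * y')⁻¹ = (y : G) * ((y' : G) * s.1 * (y' : G)⁻¹) * (y : G)⁻¹ by group) }
      have hfix := (IsPGroup.of_card (n := 1) (by rw [Nat.card_zpowers, hz, pow_one]) :
        IsPGroup 5 (zpowers z)).card_modEq_card_fixedPoints (α := α)
      have he : IsEmpty (MulAction.fixedPoints (zpowers z) α) := ⟨fun s => by
        have h1 : z * s.1.1 * z⁻¹ = s.1.1 := congrArg Subtype.val (s.2 ⟨z, mem_zpowers z⟩)
        have hcs : Commute s.1.1 z := (mul_inv_eq_iff_eq_mul.1 h1).symm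
        have ho : orderOf s.1.1 = 2 := by
          obtain ⟨g, hg⟩ := isConj_iff.1 s.1.2.1
          rw [← hg, H78.M22R.orderOf_conj', ht]
        exact s.1.2.2 (by rw [inv_unique F ht ho hz hc hcs])⟩
      rw [Nat.card_of_isEmpty (α := MulAction.fixedPoints (zpowers z) α)] at hfix
      exact (Nat.modEq_zero_iff_dvd).1 hfix
    omega
  · exfalso
    refine no_class_sixtysix F ht hz hc ?_
    rw [h] at hmul
    omega
  · rw [h] at hmul
    omega

end H4.MTwelveNse
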