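import Mathlib

/-!
A group of order 720 with a self-centralising subgroup of order five and an element of order four:
subgroups of index five and of order 72.
-/

set_option autoImplicit false
set_option linter.style.haveILetI false

namespace H4.MTwelveNse

open Subgroup

variable {Q : Type*} [Group Q] [Finite Q]

/-- The hypotheses on the group of order 720. -/
structure QFacts (Q : Type*) [Group Q] (P : Subgroup Q) : Prop where
  card : Nat.card Q = 720
  cardP : Nat.card P = 5
  cent : ∀ g : Q, (∀ z ∈ P, g * z = z * g) → g ∈ P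
  four : ∃ b : Q, orderOf b = 4

variable {P : Subgroup Q}

/-- A subgroup normalised by a fixed-point-free group of order five. -/
theorem card_modEq_one (F : QFacts Q P) {K : Subgroup Q}
    (hn : ∀ x ∈ P, ∀ k ∈ K, x * k * x⁻¹ ∈ K) (h5 : ¬ 5 ∣ Nat.card K) :
    Nat.card K % 5 = 1 := by
  haveI : Fact (Nat.Prime 5) := ⟨by norm_num⟩
  let act : MulAction P K :=
    { smul := fun x k => ⟨x.1 * k.1 * x.1⁻¹, hn x x.2 k k.2⟩
      one_smul := fun k => Subtype.ext (show (1 : Q) * k.1 * (1 : Q)⁻¹ = k.1 by group)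
      mul_smul := fun x y k => Subtype.ext
        (show (x.1 * y.1) * k.1 * (x.1 * y.1)⁻¹ = x.1 * (y.1 * k.1 * y.1⁻¹) * x.1⁻¹ by group) }
  have h := (IsPGroup.of_card (n := 1) (by rw [F.cardP, pow_one]) :
    IsPGroup 5 P).card_modEq_card_fixedPoints (α := K)
  have h1 : Nat.card (MulAction.fixedPoints P K) = 1 := by
    rw [Nat.card_eq_one_iff_exists]
    refine ⟨⟨1, fun x => Subtype.ext (show x.1 * (1 : Q) * x.1⁻¹ = 1 by group)⟩, fun k => ?_⟩
    have hc : (k.1.1 : Q) ∈ P := F.cent _ fun z hz =>
      (mul_inv_eq_iff_eq_mul.1 (congrArg Subtype.val (k.2 ⟨z, hz⟩))).symm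
    refine Subtype.ext (Subtype.ext ?_)
    by_contra hne
    refine h5 ?_
    have ho : orderOf (k.1.1 : Q) = 5 :=
      ((Nat.dvd_prime (by norm_num)).1 (F.cardP ▸ orderOf_dvd_natCard P hc)).resolve_left
        fun h => hne (orderOf_eq_one_iff.1 h)
    exact ho ▸ orderOf_dvd_natCard K k.1.2
  rw [h1] at h
  exact h

/-- Its Sylow subgroups have orders congruent to one. -/
theorem pow_factorization_modEq_one (F : QFacts Q P) {K : Subgroup Q}
    (hn : ∀ x ∈ P, ∀ k ∈ K, x * k * x⁻¹ ∈ K) (h5 : ¬ 5 ∣ Nat.card K) (p : ℕ) [hp : Fact p.Prime] :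
    (p ^ (Nat.card K).factorization p) % 5 = 1 := by
  classical
  haveI : Fact (Nat.Prime 5) := ⟨by norm_num⟩
  set q := p ^ (Nat.card K).factorization p with hq
  let α : Type _ := {S : Subgroup Q // S ≤ K ∧ Nat.card S = q}
  have hmap : ∀ (x : P) (S : α),
      S.1.map (MulAut.conj x.1).toMonoidHom ≤ K ∧
        Nat.card (S.1.map (MulAut.conj x.1).toMonoidHom) = q := fun x S =>
    ⟨by rintro _ ⟨k, hk, rfl⟩; exact hn x x.2 k (S.2.1 hk),
      by rw [Subgroup.card_map_of_injective (MulAut.conj x.1).injective]; exact S.2.2⟩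
  let act : MulAction P α :=
    { smul := fun x S => ⟨_, hmap x S⟩
      one_smul := fun S => Subtype.ext (by
        show S.1.map (MulAut.conj (1 : Q)).toMonoidHom = S.1
        ext k; simp [Subgroup.mem_map])
      mul_smul := fun x y S => Subtype.ext (by
        show S.1.map (MulAut.conj (x.1 * y.1)).toMonoidHom =
          (S.1.map (MulAut.conj y.1).toMonoidHom).map (MulAut.conj x.1).toMonoidHom
        rw [Subgroup.map_map, map_mul]; rfl) }
  let f : Sylow p K → α := fun S => ⟨(S : Subgroup K).map K.subtype, map_subtype_le _, by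
    rw [Subgroup.card_map_of_injective K.subtype_injective, S.card_eq_multiplicity]⟩
  have hbij : Function.Bijective f := by
    refine ⟨fun S T h => Sylow.ext (map_injective K.subtype_injective (congrArg Subtype.val h)),
      fun S => ⟨Sylow.ofCard (S.1.subgroupOf K) ?_, Subtype.ext ?_⟩⟩
    · rw [Nat.card_congr (subgroupOfEquivOfLe S.2.1).toEquiv]; exact S.2.2
    · show ((S.1.subgroupOf K).map K.subtype) = S.1
      exact map_subgroupOf_eq_of_le S.2.1
  have hnd : ¬ 5 ∣ Nat.card α := by
    rw [← Nat.card_eq_of_bijective f hbij]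
    intro h
    have S : Sylow p K := Classical.arbitrary _
    exact h5 (h.trans (S.card_dvd_index.trans (index_dvd_card _)))
  obtain ⟨S, hS⟩ := (IsPGroup.of_card (n := 1) (by rw [F.cardP, pow_one]) :
    IsPGroup 5 P).nonempty_fixed_point_of_prime_not_dvd_card α hnd
  rw [← S.2.2]
  refine card_modEq_one F (fun x hx k hk => ?_) fun h => h5 (h.trans (card_dvd_of_le S.2.1))
  have e : S.1.map (MulAut.conj x).toMonoidHom = S.1 := congrArg Subtype.val (hS ⟨x, hx⟩)
  rw [← e]
  exact ⟨k, hk, rfl⟩

theorem card_eq_one_or_sixteen (F : QFacts Q P) {K : Subgroup Q}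
    (hn : ∀ x ∈ P, ∀ k ∈ K, x * k * x⁻¹ ∈ K) (h144 : Nat.card K ∣ 144) :
    Nat.card K = 1 ∨ Nat.card K = 16 := by
  have h5 : ¬ 5 ∣ Nat.card K := fun h => absurd (h.trans h144) (by norm_num)
  have h2 := pow_factorization_modEq_one F hn h5 2 (hp := ⟨by norm_num⟩)
  have h3 := pow_factorization_modEq_one F hn h5 3 (hp := ⟨by norm_num⟩)
  have h1 := card_modEq_one F hn h5
  have hmem : Nat.card K ∈ (144 : ℕ).divisors := Nat.mem_divisors.2 ⟨h144, by norm_num⟩
  revert h1 h2 h3 hmem
  generalize Nat.card K = n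
  intro h2 h3 h1 hmem
  have key : ∀ m ∈ (144 : ℕ).divisors, m % 5 = 1 → m = 1 ∨ m = 16 ∨ m = 6 ∨ m = 36 := by decide
  have f6 : (6 : ℕ).factorization 3 = 1 := by
    rw [show (6 : ℕ) = 3 ^ 1 * 2 by norm_num, Nat.factorization_mul (by norm_num) (by norm_num),
      Finsupp.add_apply, Nat.Prime.factorization_pow (by norm_num), Finsupp.single_eq_same,
      Nat.factorization_eq_zero_of_not_dvd (show ¬ 3 ∣ 2 by norm_num)]
  have f36 : (36 : ℕ).factorization 3 = 2 := by
    rw [show (36 : ℕ) = 3 ^ 2 * 4 by norm_num, Nat.factorization_mul (by norm_num) (by norm_num),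
      Finsupp.add_apply, Nat.Prime.factorization_pow (by norm_num), Finsupp.single_eq_same,
      Nat.factorization_eq_zero_of_not_dvd (show ¬ 3 ∣ 4 by norm_num)]
  rcases key n hmem h1 with h | h | h | h
  · exact Or.inl h
  · exact Or.inr h
  · rw [h, f6] at h3; norm_num at h3
  · rw [h, f36] at h3; norm_num at h3

theorem not_normal_sixteen (F : QFacts Q P) {K : Subgroup Q} [K.Normal]
    (hK : Nat.card K = 16) : False := by
  classical
  haveI : Fact (Nat.Prime 2) := ⟨by norm_num⟩
  obtain ⟨b, hb⟩ := F.four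
  have hbK : b ∈ K := by
    have hpg : IsPGroup 2 (zpowers b) := IsPGroup.of_card (n := 2) (by
      rw [Nat.card_zpowers, hb]; norm_num)
    obtain ⟨S, hS⟩ := hpg.exists_le_sylow
    have hKp : IsPGroup 2 K := IsPGroup.of_card (n := 4) (by rw [hK]; norm_num)
    have hsup : IsPGroup 2 ((S : Subgroup Q) ⊔ K : Subgroup Q) :=
      IsPGroup.to_sup_of_normal_right S.2 hKp
    obtain ⟨n, hn⟩ := IsPGroup.iff_card.1 hsup
    have hd : 2 ^ n ∣ 720 := hn ▸ F.card ▸ card_subgroup_dvd_card _
    have hle : n ≤ 4 := by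
      by_contra h
      have : 2 ^ 5 ∣ 720 := (pow_dvd_pow 2 (by omega : 5 ≤ n)).trans hd
      norm_num at this
    have hge : K = (S : Subgroup Q) ⊔ K := eq_of_le_of_card_ge le_sup_right (by
      rw [hn, hK]; exact (Nat.pow_le_pow_right (by norm_num) hle).trans (by norm_num))
    rw [hge]
    exact (hS.trans le_sup_left) (mem_zpowers b)
  let W : Subgroup Q :=
    { carrier := {k | k ∈ K ∧ k * k = 1 ∧ ∀ l ∈ K, k * l = l * k}
      one_mem' := ⟨K.one_mem, one_mul 1, fun l _ => by rw [one_mul, mul_one]⟩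
      mul_mem' := fun {x y} hx hy => ⟨K.mul_mem hx.1 hy.1, by
          rw [show x * y * (x * y) = x * (y * x) * y by group, hy.2.2 x hx.1,
            show x * (x * y) * y = (x * x) * (y * y) by group, hx.2.1, hy.2.1, one_mul],
        fun l hl => by rw [mul_assoc, hy.2.2 l hl, ← mul_assoc, hx.2.2 l hl, mul_assoc]⟩
      inv_mem' := fun {x} hx => by
        rw [inv_eq_of_mul_eq_one_right hx.2.1]; exact hx }
  have hWn : ∀ x ∈ P, ∀ k ∈ W, x * k * x⁻¹ ∈ W := by
    rintro x - k ⟨hk, hk2, hkc⟩
    refine ⟨Subgroup.Normal.conj_mem inferInstance k hk x, ?_, fun l hl => ?_⟩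
    · rw [show x * k * x⁻¹ * (x * k * x⁻¹) = x * (k * k) * x⁻¹ by group, hk2]; group
    · have h : x⁻¹ * l * x ∈ K := by
        simpa using Subgroup.Normal.conj_mem (H := K) inferInstance l hl x⁻¹
      calc x * k * x⁻¹ * l = x * (k * (x⁻¹ * l * x)) * x⁻¹ := by group
        _ = x * ((x⁻¹ * l * x) * k) * x⁻¹ := by rw [hkc _ h]
        _ = l * (x * k * x⁻¹) := by group
  have hWK : W ≤ K := fun k hk => hk.1
  have hdvd : Nat.card W ∣ 16 := hK ▸ card_dvd_of_le hWK
  have hWne : Nat.card W ≠ 1 := by
    intro h1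
    haveI : Nontrivial K := Finite.one_lt_card_iff_nontrivial.1 (by rw [hK]; norm_num)
    haveI := (IsPGroup.of_card (n := 4) (by rw [hK]; norm_num) : IsPGroup 2 K).center_nontrivial
    obtain ⟨c, hc⟩ := exists_prime_orderOf_dvd_card' (G := center K) 2 (by
      obtain ⟨n, hn0, hn⟩ := (((IsPGroup.of_card (n := 4) (by rw [hK]; norm_num) :
        IsPGroup 2 K).to_subgroup (center K)).nontrivial_iff_card).1 inferInstance
      rw [hn]; exact dvd_pow_self 2 hn0.ne')
    have hcW : ((c : K) : Q) ∈ W := by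
      refine ⟨(c : K).2, ?_, fun l hl => congrArg Subtype.val (mem_center_iff.1 c.2 ⟨l, hl⟩).symm⟩
      have : c * c = 1 := by rw [← sq, ← hc, pow_orderOf_eq_one]
      exact congrArg (fun z : center K => ((z : K) : Q)) this
    rw [card_eq_one] at h1
    rw [h1, mem_bot] at hcW
    have hc1 : orderOf c = 1 := orderOf_eq_one_iff.2 (Subtype.ext (Subtype.ext hcW))
    omega
  rcases card_eq_one_or_sixteen F hWn (hdvd.trans (by norm_num)) with h | h
  · exact hWne h
  · have : W = K := eq_of_le_of_card_ge hWK (by rw [h, hK])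
    rw [← this] at hbK
    have := orderOf_dvd_of_pow_eq_one ((sq b).trans hbK.2.1)
    rw [hb] at this
    norm_num at this

/-- There is no subgroup of index five. -/
theorem not_index_five (F : QFacts Q P) {M : Subgroup Q} (hM : Nat.card M = 144) : False := by
  have hidx : M.index = 5 := by
    have := M.card_mul_index
    rw [hM, F.card] at this
    omega
  have hd : Nat.card M.normalCore ∣ 144 := hM ▸ card_dvd_of_le M.normalCore_le
  rcases card_eq_one_or_sixteen F
    (fun x _ k hk => (normalCore_normal M).conj_mem k hk x) hd with h | h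
  · have hle : Nat.card Q ≤ Nat.card (Equiv.Perm (Q ⧸ M)) := by
      refine Nat.card_le_card_of_injective (MulAction.toPermHom Q (Q ⧸ M)) ?_
      rw [← MonoidHom.ker_eq_bot_iff, ← normalCore_eq_ker]
      exact card_eq_one.1 h
    rw [Nat.card_perm, ← index_eq_card, hidx, F.card, show Nat.factorial 5 = 120 by decide] at hle
    omega
  · exact not_normal_sixteen F h

/-- A subgroup of order 72 is maximal. -/
theorem eq_or_eq_top (F : QFacts Q P) {H M : Subgroup Q} (hH : Nat.card H = 72) (hle : H ≤ M) :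
    M = H ∨ M = ⊤ := by
  have h1 : 72 ∣ Nat.card M := hH ▸ card_dvd_of_le hle
  have h2 : Nat.card M ∣ 720 := F.card ▸ card_subgroup_dvd_card M
  obtain ⟨k, hk⟩ := h1
  have hk' : k ∣ 10 := by
    rw [hk, show (720 : ℕ) = 72 * 10 by norm_num] at h2
    exact Nat.dvd_of_mul_dvd_mul_left (by norm_num) h2
  have hk10 : k ≤ 10 := Nat.le_of_dvd (by norm_num) hk'
  interval_cases k <;> norm_num at hk hk'
  · exact Or.inl (eq_of_le_of_card_ge hle (by rw [hk, hH])).symm
  · exact (not_index_five F hk).elim
  · exfalso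
    have hMi : M.index = 2 := by
      have := M.card_mul_index
      rw [hk, F.card] at this
      omega
    haveI : M.Normal := normal_of_index_eq_two hMi
    have hPM : P ≤ M := by
      intro x hx
      have : orderOf (QuotientGroup.mk' M x) ∣ 5 :=
        (orderOf_map_dvd (QuotientGroup.mk' M) x).trans (F.cardP ▸ orderOf_dvd_natCard P hx)
      have h' : orderOf (QuotientGroup.mk' M x) ∣ 2 := by
        rw [← hMi, index_eq_card]; exact _root_.orderOf_dvd_natCard _
      have : orderOf (QuotientGroup.mk' M x) = 1 :=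
        Nat.dvd_one.1 ((show Nat.gcd 5 2 = 1 by rfl) ▸ Nat.dvd_gcd this h')
      exact (QuotientGroup.eq_one_iff x).1 (orderOf_eq_one_iff.1 this)
    set H' := H.subgroupOf M with hH'
    have hcH : Nat.card H' = 72 := by
      rw [Nat.card_congr (subgroupOfEquivOfLe hle).toEquiv, hH]
    have hd : Nat.card (H'.normalCore.map M.subtype) ∣ 72 := by
      rw [Subgroup.card_map_of_injective M.subtype_injective]
      exact hcH ▸ card_dvd_of_le H'.normalCore_le
    have hn : ∀ x ∈ P, ∀ k ∈ H'.normalCore.map M.subtype,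
        x * k * x⁻¹ ∈ H'.normalCore.map M.subtype := by
      rintro x hx _ ⟨k, hk', rfl⟩
      exact ⟨_, (normalCore_normal H').conj_mem k hk' ⟨x, hPM hx⟩, rfl⟩
    rcases card_eq_one_or_sixteen F hn (hd.trans (by norm_num)) with h | h
    · have hidx : H'.index = 5 := by
        have := H'.card_mul_index
        rw [hcH, hk] at this
        omega
      have hle' : Nat.card M ≤ Nat.card (Equiv.Perm (M ⧸ H')) := by
        refine Nat.card_le_card_of_injective (MulAction.toPermHom M (M ⧸ H')) ?_
        rw [← MonoidHom.ker_eq_bot_iff, ← normalCore_eq_ker]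
        rw [Subgroup.card_map_of_injective M.subtype_injective] at h
        exact card_eq_one.1 h
      rw [Nat.card_perm, ← index_eq_card, hidx, hk, show Nat.factorial 5 = 120 by decide] at hle'
      omega
    · rw [h] at hd; norm_num at hd
  · exact Or.inr (eq_top_of_card_eq M (by rw [hk, F.card]))

/-- The action on the cosets of a subgroup of order 72 is faithful. -/
theorem faithful (F : QFacts Q P) {H : Subgroup Q} (hH : Nat.card H = 72) {g : Q}
    (hg : ∀ c : Q ⧸ H, g • c = c) : g = 1 := by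
  have hmem : g ∈ H.normalCore := by
    rw [normalCore_eq_ker, MonoidHom.mem_ker]
    exact Equiv.ext hg
  have hd : Nat.card H.normalCore ∣ 72 := hH ▸ card_dvd_of_le H.normalCore_le
  rcases card_eq_one_or_sixteen F (fun x _ k hk => (normalCore_normal H).conj_mem k hk x)
    (hd.trans (by norm_num)) with h | h
  · rw [card_eq_one.1 h] at hmem; exact hmem
  · rw [h] at hd; norm_num at hd

end H4.MTwelveNse
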